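import Cfsg.Agent.Spor.G2080.D0

set_option autoImplicit false
set_option maxRecDepth 100000000
set_option Elab.async false

namespace Cfsg.Agent.Spor.G2080

theorem ok0 : Net.okb 12 n0 = true := by decide +kernel

theorem ok1 : Net.okb 12 n1 = true := by decide +kernel

theorem ok2 : Net.okb 12 n2 = true := by decide +kernel

theorem ok3 : Net.okb 12 n3 = true := by decide +kernel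

theorem ok4 : Net.okb 12 n4 = true := by decide +kernel

theorem ok5 : Net.okb 12 n5 = true := by decide +kernel

theorem rel0 : T.rel 12 [1, 1] 0 12 = true := by decide +kernel

theorem rel1 : T.rel 12 [2, 2] 0 12 = true := by decide +kernel

theorem rel2 : T.rel 12 [3, 3] 0 12 = true := by decide +kernel

theorem rel3 : T.rel 12 [4, 4] 0 12 = true := by decide +kernel

theorem rel4 : T.rel 12 [5, 5] 0 12 = true := by decide +kernel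

theorem rel5 : T.rel 12 [6, 6] 0 12 = true := by decide +kernel

theorem rel6 : T.rel 12 [2, 1, 2, 1, 2, 1, 2, 1, 2, 1] 0 12 = true := by decide +kernel

theorem rel7 : T.rel 12 [3, 1, 3, 1] 0 12 = true := by decide +kernel

theorem rel8 : T.rel 12 [4, 1, 4, 1] 0 12 = true := by decide +kernel

theorem rel9 : T.rel 12 [5, 1, 5, 1] 0 12 = true := by decide +kernel

theorem rel10 : T.rel 12 [6, 1, 6, 1] 0 12 = true := by decide +kernel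

theorem rel11 : T.rel 12 [3, 2, 3, 2, 3, 2] 0 12 = true := by decide +kernel

theorem rel12 : T.rel 12 [4, 2, 4, 2] 0 12 = true := by decide +kernel

theorem rel13 : T.rel 12 [5, 2, 5, 2] 0 12 = true := by decide +kernel

theorem rel14 : T.rel 12 [6, 2, 6, 2, 6, 2] 0 12 = true := by decide +kernel

theorem rel15 : T.rel 12 [4, 3, 4, 3, 4, 3, 4, 3, 4, 3, 4, 3, 4, 3, 4, 3] 0 12 = true := by decide +kernel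

theorem rel16 : T.rel 12 [5, 3, 5, 3] 0 12 = true := by decide +kernel

theorem rel17 : T.rel 12 [6, 3, 6, 3] 0 12 = true := by decide +kernel

theorem rel18 : T.rel 12 [5, 4, 5, 4, 5, 4] 0 12 = true := by decide +kernel

theorem rel19 : T.rel 12 [6, 4, 6, 4] 0 12 = true := by decide +kernel

theorem rel20 : T.rel 12 [6, 5, 6, 5] 0 12 = true := by decide +kernel

theorem rel21 : T.rel 12 [3, 4, 3, 4, 3, 4, 3, 4, 1] 0 12 = true := by decide +kernel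

theorem rel22 : T.rel 12 [6, 3, 2, 1, 6, 3, 2, 1, 6, 3, 2, 1, 6, 3, 2, 1, 6, 3, 2, 1] 0 12 = true := by decide +kernel

theorem rel23 : T.rel 12 [5, 4, 3, 4, 3, 2, 4, 3, 4, 3, 2, 4, 3, 4, 3, 2, 4, 3, 4, 3, 2, 4, 3, 4, 3, 2, 5, 4, 3, 4, 3, 2, 4, 3, 4, 3, 2, 4, 3, 4, 3, 2, 4, 3, 4, 3, 2, 4, 3, 4, 3, 2, 5, 4, 3, 4, 3, 2, 4, 3, 4, 3, 2, 4, 3, 4, 3, 2, 4, 3, 4, 3, 2, 4, 3, 4, 3, 2] 0 12 = true := by decide +kernel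

theorem hcov : T.treeCov (ones 2080) L 1 = true := by decide +kernel

theorem hg : lall (fun z => band (memL L z) (band (sub (ones 2080) (T.let z).cl) (T.closed (ones 2080) z))) gs = true := by decide +kernel

theorem hivk : ivOk (2 * 6) EX IV = true := by decide +kernel

theorem hrt : RT.ok (2 * 6) EX RL = true := by decide +kernel

theorem hdefs : defs F 164 = true := by decide +kernel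

noncomputable def st0_l : List Nat := [nat_lit 0x3ff, nat_lit 0x3ff, nat_lit 0x3ff, nat_lit 0x3ff, nat_lit 0x3ff, nat_lit 0xa480000403, nat_lit 0xa580000403, nat_lit 0xa680000403, nat_lit 0xa880000403, nat_lit 0x2000aa80000c03, nat_lit 0x2000ac80000c03, nat_lit 0x10000040000100055c002a6000030000280002408, nat_lit 0x120015e0000400001000004001570000180001408, nat_lit 0x10000040000100055c00006000050000480057c08, nat_lit 0x4000ae80001403, nat_lit 0x18000080015b0000280001c05, nat_lit 0xc0000300002403, nat_lit 0x580001c0000a000030005840000e0000b0000780005c09, nat_lit 0x8000b280002403, nat_lit 0xa000b380002c03, nat_lit 0x100000500003403, nat_lit 0x500001a000080005b8000140000d0000980007c08, nat_lit 0x52001730000f00004800018001670000680004c08, nat_lit 0x3c000120000600059c0001a000130000f8005c808,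 nat_lit 0x180000700004403, nat_lit 0x200000900005403, nat_lit 0x48002d20015f000b400004c05, nat_lit 0x50002d20016d000b400005405, nat_lit 0x220000b00006403, nat_lit 0x2a0000d00007403, nat_lit 0x980003400178000128000cc05, nat_lit 0x1e000be80007c03, nat_lit 0x2c0000f00008403, nat_lit 0x20000ba0000ac03, nat_lit 0xb8000400017d000108000bc05, nat_lit 0x24000c00000c403, nat_lit 0x38000130000a403, nat_lit 0x1380007400026000158000fc05, nat_lit 0x1280006c00026000ba8005f4002e8000270001b80012c09, nat_lit 0x3c000140000ac03, nat_lit 0x2c000bb8000f403, nat_lit 0x2c000b90000f403, nat_lit 0x10000058001870001680010405, nat_lit 0x2e000c400010403, nat_lit 0xb8002f60017f000bd0000bc05, nat_lit 0x48000190000d403, nat_lit 0x36000c280011c03, nat_lit 0x4c0001b0000e403, nat_lit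 0x3e000cb00014403, nat_lit 0x158000800019b0002880019405, nat_lit 0x580002100011403, nat_lit 0x5c0002500013403, nat_lit 0x52000d480018c03, nat_lit 0x52000c900017c03, nat_lit 0x54000c900018403, nat_lit 0x56000ce80015c03, nat_lit 0x5c000ca80017403, nat_lit 0x6e0002f00018403, nat_lit 0x66000d98001bc03, nat_lit 0x6c000dc8001b403, nat_lit 0x6e000d90001480007c001830000e0005c4002d20015f000b680058c002d0000130001080062c0007e00055000da8006e813, nat_lit 0x78000380001cc03, nat_lit 0x1c00037a001c1000de0001c405, nat_lit 0x78000e28001e403, nat_lit 0x644002e600186000b900064005, nat_lit 0x90001840001c8007240034c0004c000d280016c08, nat_lit 0x98001a50002d80072800090001840001c80069808, nat_lit 0x1b00035e001cc000d70001b405, nat_lit 0x1e80001c0016f000078001ec05, nat_lit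 0x7c0003d00005c03, nat_lit 0x7e000e88001fc03, nat_lit 0x200003a60016b000e900020405, nat_lit 0x820003e0001fc03, nat_lit 0x880004000020c03, nat_lit 0x8a000ec80021403, nat_lit 0x23000108001d50004280023405, nat_lit 0x11c00084000ec000208003a6000230001880011408, nat_lit 0x900004300022403, nat_lit 0x12c0008a000ec8001f8000f400019000128000d408, nat_lit 0x9a0004600023c03, nat_lit 0x9c000f180024c03, nat_lit 0x27800124001db0004580025405, nat_lit 0xa40004a00025c03, nat_lit 0xa80004c00026c03, nat_lit 0x2a8003ce001e1000d60001ac05, nat_lit 0x15c0009c000f1800220003ae000890004980028408, nat_lit 0xb0000f580028c03, nat_lit 0xb20004f00028403, nat_lit 0xb60005100029403, nat_lit 0x2e0003da001e5000d100072c05, nat_lit 0xbc000530002a403, nat_lit 0xbe000f78002ac03, nat_lit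 0xc0000f88001d403, nat_lit 0xc4000560002bc03, nat_lit 0xc8000580002cc03, nat_lit 0x33000168000a20004a0007740011a00099000538002ec09, nat_lit 0xce000fc8002e403, nat_lit 0xd0000fd80016803, nat_lit 0xd6000ff80030403, nat_lit 0x1ac000be000f7800268003be0009b0005580030408, nat_lit 0xdc0006100031403, nat_lit 0x37800406001f3000fb00032c05, nat_lit 0xe40006300032403, nat_lit 0xe60010280032c03, nat_lit 0xe80010480034403, nat_lit 0x1d400218000740003380016c001f40006480039c08, nat_lit 0x3b0001a4001fd0005f80035405, nat_lit 0xee0006a00035c03, nat_lit 0xf00010680036403, nat_lit 0x3d0001b4000c2000560007a40013e000b10006380038409, nat_lit 0xf60006d00037403, nat_lit 0xf80010880037c03, nat_lit 0xfa0007000039403, nat_lit 0x1020010d80040403, nat_lit 0x408001d40020b000d200012c05,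 nat_lit 0x22d000ca0008b003, nat_lit 0x22a001170008ac03, nat_lit 0x89c0042600216000808008c000200002170010900089809, nat_lit 0x894001f2002320007c00089005, nat_lit 0x1040010f8003c403, nat_lit 0x106001108003cc03, nat_lit 0x1080007a0003dc03, nat_lit 0x108001118003ec03, nat_lit 0x23b0011a0008e803, nat_lit 0x10a001148003fc03, nat_lit 0x428004780023f0011e80042c05, nat_lit 0x430001f8000e200063000324001ce0021a0007500082c000b6001ca000240006100004c00029000b98000780002400169000040000100000400157000aa8000000029e0014d000a7800534002960014f000a680053c0029a0014b000a78005340029e0014d000a580053c0029a0014f000a680052c0029e0014d000a7800534002960000100001800014000120015f000b4000030002ce0000d000098005f40003e0017200014000068002f0000180003d8001fc0010a0008d0004d8002ac001820020e0010f0004144d,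 nat_lit 0x1060011b00091003, nat_lit 0x438001fc002150007380040405, nat_lit 0x2490011800092003, nat_lit 0x12580043800480002430012080043c004960010e0012000090c0a, nat_lit 0x4980024a0012680090404, nat_lit 0x4900024d001278003f804, nat_lit 0x1010012880085403, nat_lit 0x22b0012880039003, nat_lit 0x21b0012980032003, nat_lit 0xe20012a0008b403, nat_lit 0xeb0012b8007d403, nat_lit 0xfc0012c80017403, nat_lit 0xb40012d00082c03, nat_lit 0x10c0012e8001b403, nat_lit 0xcc0012f80011803, nat_lit 0x2470013080073c03, nat_lit 0x244001308001dc03, nat_lit 0x206001318000c803, nat_lit 0x238001328006fc03, nat_lit 0x107001328001dc03, nat_lit 0x13300041002, nat_lit 0xbb0013480063c03, nat_lit 0xf3001358001dc03, nat_lit 0x26e001360003c003, nat_lit 0xbc0013880011403, nat_lit 0x4e80026e0013900036004,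 nat_lit 0x9e00043c002750013c80080405, nat_lit 0x3bc004ea002790013d8001d005, nat_lit 0xd20013b80078003, nat_lit 0x21d0013e8001a803, nat_lit 0x3ce0027e00076800a0404, nat_lit 0x1e6001418006b403, nat_lit 0x8f0014280011003, nat_lit 0x85001438000c003, nat_lit 0x7f0014480008803, nat_lit 0x3d800a2c02, nat_lit 0x110000c680044403, nat_lit 0x1140008800067c03, nat_lit 0x1140014780045403, nat_lit 0x1160008900045403, nat_lit 0x1180014880015c03, nat_lit 0x23c0011800148800678003420019f0002b8001a408, nat_lit 0x48000234002950008c80047405, nat_lit 0x1220008e00046000526002910002000066c0007800176000c38005c80007a001980002080015c0036e002960008e800a6813, nat_lit 0x1240008e00047c03, nat_lit 0x1260014d000a7003, nat_lit 0x1280009100049403, nat_lit 0x12c0009200049c03, nat_lit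 0x12e001518004ac03, nat_lit 0x134000950004b403, nat_lit 0x136001538004cc03, nat_lit 0x4e0002600012a0014f800a6405, nat_lit 0x1aa00034800ab003, nat_lit 0x13a000980004cc03, nat_lit 0x2740013900157000190000c6001b0000338001cc08, nat_lit 0x27c002aa0009b0004b800250002a000152000aa008, nat_lit 0x1420009c0004f403, nat_lit 0x51000278001300009a80050405, nat_lit 0x1460015a80050403, nat_lit 0x5180027c002b00015980070805, nat_lit 0x2bd000e3000af003, nat_lit 0x572002ba0015f000aec04, nat_lit 0x1450016080050003, nat_lit 0x2b700161800aa403, nat_lit 0x143001628004b003, nat_lit 0x29e00163000ab403, nat_lit 0x11f001648001a003, nat_lit 0x1190016580015803, nat_lit 0x1150016680067803, nat_lit 0x88800b3c02]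
theorem st0 : band (steps F IV RT base st0_l 164) (Nat.beq (Nat.add 164 (llen st0_l)) 361) = true := by decide +kernel

theorem rot1_1 : T.rot 1 [1] (sel (ones 2080) ip1 1) = true := by decide +kernel

theorem rot1_1r : band (Rule.ok (2 * 6) EX RL ⟨1 :: [1], [], 18, false⟩) (lall (memL L) [1]) = true := by decide +kernel

theorem rot1_2 : T.rot 1 [3, 1, 3] (sel (ones 2080) ip1 2) = true := by decide +kernel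

theorem rot1_2r : band (Rule.ok (2 * 6) EX RL ⟨1 :: [3, 1, 3], [], 1, false⟩) (lall (memL L) [3, 1, 3]) = true := by decide +kernel

theorem rot1_3 : T.rot 1 [4, 1, 4] (sel (ones 2080) ip1 3) = true := by decide +kernel

theorem rot1_3r : band (Rule.ok (2 * 6) EX RL ⟨1 :: [4, 1, 4], [], 2, false⟩) (lall (memL L) [4, 1, 4]) = true := by decide +kernel

theorem rot1_4 : T.rot 1 [5, 1, 5] (sel (ones 2080) ip1 4) = true := by decide +kernel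

theorem rot1_4r : band (Rule.ok (2 * 6) EX RL ⟨1 :: [5, 1, 5], [], 3, false⟩) (lall (memL L) [5, 1, 5]) = true := by decide +kernel

theorem rot1_5 : T.rot 1 [6, 1, 6] (sel (ones 2080) ip1 5) = true := by decide +kernel

theorem rot1_5r : band (Rule.ok (2 * 6) EX RL ⟨1 :: [6, 1, 6], [], 4, false⟩) (lall (memL L) [6, 1, 6]) = true := by decide +kernel

theorem rot1_6 : T.rot 1 [3, 4, 3, 4, 3, 4, 3, 4] (sel (ones 2080) ip1 6) = true := by decide +kernel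

theorem rot1_6r : band (Rule.ok (2 * 6) EX RL ⟨1 :: [3, 4, 3, 4, 3, 4, 3, 4], [0], 15, true⟩) (lall (memL L) [3, 4, 3, 4, 3, 4, 3, 4]) = true := by decide +kernel

theorem rot1_7 : T.rot 1 [4, 3, 4, 3, 4, 3, 4, 3] (sel (ones 2080) ip1 7) = true := by decide +kernel

theorem rot1_7r : band (Rule.ok (2 * 6) EX RL ⟨1 :: [4, 3, 4, 3, 4, 3, 4, 3], [], 15, false⟩) (lall (memL L) [4, 3, 4, 3, 4, 3, 4, 3]) = true := by decide +kernel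

theorem rot1_8 : T.rot 1 [2, 1, 2, 1, 2, 1, 2, 1, 2] (sel (ones 2080) ip1 8) = true := by decide +kernel

theorem rot1_8r : band (Rule.ok (2 * 6) EX RL ⟨1 :: [2, 1, 2, 1, 2, 1, 2, 1, 2], [], 0, false⟩) (lall (memL L) [2, 1, 2, 1, 2, 1, 2, 1, 2]) = true := by decide +kernel

theorem rot1_9 : T.rot 1 [6, 3, 2, 1, 6, 3, 2, 1, 6, 3, 2, 1, 6, 3, 2, 1, 6, 3, 2] (sel (ones 2080) ip1 9) = true := by decide +kernel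

theorem rot1_9r : band (Rule.ok (2 * 6) EX RL ⟨1 :: [6, 3, 2, 1, 6, 3, 2, 1, 6, 3, 2, 1, 6, 3, 2, 1, 6, 3, 2], [0], 16, true⟩) (lall (memL L) [6, 3, 2, 1, 6, 3, 2, 1, 6, 3, 2, 1, 6, 3, 2, 1, 6, 3, 2]) = true := by decide +kernel

theorem rot1_10 : T.rot 1 [2, 3, 6, 1, 2, 3, 6, 1, 2, 3, 6, 1, 2, 3, 6, 1, 2, 3, 6] (sel (ones 2080) ip1 10) = true := by decide +kernel

theorem rot1_10r : band (Rule.ok (2 * 6) EX RL ⟨1 :: [2, 3, 6, 1, 2, 3, 6, 1, 2, 3, 6, 1, 2, 3, 6, 1, 2, 3, 6], [], 16, false⟩) (lall (memL L) [2, 3, 6, 1, 2, 3, 6, 1, 2, 3, 6, 1, 2, 3, 6, 1, 2, 3, 6]) = true := by decide +kernel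

theorem ep1a : T.treePath [5, 4, 3, 2, 4, 3, 6, 2] (Nat.shiftLeft 1 45) 1 = true := by decide +kernel

theorem ep1b : T.treePath [5, 4, 3, 2, 4, 3, 6, 2] (Nat.shiftLeft 1 45) 1 = true := by decide +kernel

theorem ep1c : band (lall (fun z => Nat.ble z 255) ([5, 4, 3, 2, 4, 3, 6, 2] ++ 1 :: [2, 6, 3, 4, 2, 3, 4, 5])) (concl F IV 361 0x4000060000500003800034000260002100017800b400005c00020000090000300000c000040000100000011 (encA ([5, 4, 3, 2, 4, 3, 6, 2] ++ 1 :: [2, 6, 3, 4, 2, 3, 4, 5]) 0)) = true := by decide +kernel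

theorem ep1d : band (Rule.ok (2 * 6) EX [] ⟨lapp [5, 4, 3, 2, 4, 3, 6, 2] [2, 6, 3, 4, 2, 3, 4, 5], [], 0, false⟩) (band (lall (memL L) [5, 4, 3, 2, 4, 3, 6, 2]) (lall (memL L) [5, 4, 3, 2, 4, 3, 6, 2])) = true := by decide +kernel

theorem cov1 : T.cover 1 [(sel (ones 2080) ip1 1), (sel (ones 2080) ip1 2), (sel (ones 2080) ip1 3), (sel (ones 2080) ip1 4), (sel (ones 2080) ip1 5), (sel (ones 2080) ip1 6), (sel (ones 2080) ip1 7), (sel (ones 2080) ip1 8), (sel (ones 2080) ip1 9), (sel (ones 2080) ip1 10), 1, (Nat.shiftLeft 1 45)] = true := by decide +kernel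

theorem tl1 : T.treeLt 12 1 = true := by decide +kernel

theorem rot2_1 : T.rot 2 [2] (sel (ones 2080) ip2 1) = true := by decide +kernel

theorem rot2_1r : band (Rule.ok (2 * 6) EX RL ⟨2 :: [2], [], 18, false⟩) (lall (memL L) [2]) = true := by decide +kernel

theorem rot2_2 : T.rot 2 [4, 2, 4] (sel (ones 2080) ip2 2) = true := by decide +kernel

theorem rot2_2r : band (Rule.ok (2 * 6) EX RL ⟨2 :: [4, 2, 4], [], 6, false⟩) (lall (memL L) [4, 2, 4]) = true := by decide +kernel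

theorem rot2_3 : T.rot 2 [5, 2, 5] (sel (ones 2080) ip2 3) = true := by decide +kernel

theorem rot2_3r : band (Rule.ok (2 * 6) EX RL ⟨2 :: [5, 2, 5], [], 7, false⟩) (lall (memL L) [5, 2, 5]) = true := by decide +kernel

theorem rot2_4 : T.rot 2 [3, 2, 3, 2, 3] (sel (ones 2080) ip2 4) = true := by decide +kernel

theorem rot2_4r : band (Rule.ok (2 * 6) EX RL ⟨2 :: [3, 2, 3, 2, 3], [], 5, false⟩) (lall (memL L) [3, 2, 3, 2, 3]) = true := by decide +kernel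

theorem rot2_5 : T.rot 2 [6, 2, 6, 2, 6] (sel (ones 2080) ip2 5) = true := by decide +kernel

theorem rot2_5r : band (Rule.ok (2 * 6) EX RL ⟨2 :: [6, 2, 6, 2, 6], [], 8, false⟩) (lall (memL L) [6, 2, 6, 2, 6]) = true := by decide +kernel

theorem rot2_6 : T.rot 2 [1, 2, 1, 2, 1, 2, 1, 2, 1] (sel (ones 2080) ip2 6) = true := by decide +kernel

theorem rot2_6r : band (Rule.ok (2 * 6) EX RL ⟨2 :: [1, 2, 1, 2, 1, 2, 1, 2, 1], [], 0, true⟩) (lall (memL L) [1, 2, 1, 2, 1, 2, 1, 2, 1]) = true := by decide +kernel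

theorem rot2_7 : T.rot 2 [1, 6, 3, 2, 1, 6, 3, 2, 1, 6, 3, 2, 1, 6, 3, 2, 1, 6, 3] (sel (ones 2080) ip2 7) = true := by decide +kernel

theorem rot2_7r : band (Rule.ok (2 * 6) EX RL ⟨2 :: [1, 6, 3, 2, 1, 6, 3, 2, 1, 6, 3, 2, 1, 6, 3, 2, 1, 6, 3], [0, 2], 16, true⟩) (lall (memL L) [1, 6, 3, 2, 1, 6, 3, 2, 1, 6, 3, 2, 1, 6, 3, 2, 1, 6, 3]) = true := by decide +kernel

theorem rot2_8 : T.rot 2 [3, 6, 1, 2, 3, 6, 1, 2, 3, 6, 1, 2, 3, 6, 1, 2, 3, 6, 1] (sel (ones 2080) ip2 8) = true := by decide +kernel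

theorem rot2_8r : band (Rule.ok (2 * 6) EX RL ⟨2 :: [3, 6, 1, 2, 3, 6, 1, 2, 3, 6, 1, 2, 3, 6, 1, 2, 3, 6, 1], [0], 16, false⟩) (lall (memL L) [3, 6, 1, 2, 3, 6, 1, 2, 3, 6, 1, 2, 3, 6, 1, 2, 3, 6, 1]) = true := by decide +kernel

theorem rot2_9 : T.rot 2 [4, 3, 4, 3, 2, 4, 3, 4, 3, 2, 4, 3, 4, 3, 2, 4, 3, 4, 3, 2, 5, 4, 3, 4, 3, 2, 4, 3, 4, 3, 2, 4, 3, 4, 3, 2, 4, 3, 4, 3, 2, 4, 3, 4, 3, 2, 5, 4, 3, 4, 3, 2, 4, 3, 4, 3, 2, 4, 3, 4, 3, 2, 4, 3, 4, 3, 2, 4, 3, 4, 3, 2, 5, 4, 3, 4, 3] (sel (ones 2080) ip2 9) = true := by decide +kernel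

theorem rot2_9r : band (Rule.ok (2 * 6) EX RL ⟨2 :: [4, 3, 4, 3, 2, 4, 3, 4, 3, 2, 4, 3, 4, 3, 2, 4, 3, 4, 3, 2, 5, 4, 3, 4, 3, 2, 4, 3, 4, 3, 2, 4, 3, 4, 3, 2, 4, 3, 4, 3, 2, 4, 3, 4, 3, 2, 5, 4, 3, 4, 3, 2, 4, 3, 4, 3, 2, 4, 3, 4, 3, 2, 4, 3, 4, 3, 2, 4, 3, 4, 3, 2, 5, 4, 3, 4, 3], [8, 6, 4, 6, 4], 17, true⟩) (lall (memL L) [4, 3, 4, 3, 2, 4, 3, 4, 3, 2, 4, 3, 4, 3, 2, 4, 3, 4, 3, 2, 5, 4, 3, 4, 3, 2, 4, 3, 4, 3, 2, 4, 3, 4, 3, 2, 4, 3, 4, 3, 2, 4, 3, 4, 3, 2, 5, 4, 3, 4, 3, 2, 4, 3, 4, 3, 2, 4, 3, 4, 3, 2, 4, 3, 4, 3, 2, 4, 3, 4, 3, 2, 5, 4, 3, 4, 3]) = true := by decide +kernel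

theorem rot2_10 : T.rot 2 [4, 3, 4, 3, 2, 4, 3, 4, 3, 2, 4, 3, 4, 3, 2, 5, 4, 3, 4, 3, 2, 4, 3, 4, 3, 2, 4, 3, 4, 3, 2, 4, 3, 4, 3, 2, 4, 3, 4, 3, 2, 5, 4, 3, 4, 3, 2, 4, 3, 4, 3, 2, 4, 3, 4, 3, 2, 4, 3, 4, 3, 2, 4, 3, 4, 3, 2, 5, 4, 3, 4, 3, 2, 4, 3, 4, 3] (sel (ones 2080) ip2 10) = true := by decide +kernel

theorem rot2_10r : band (Rule.ok (2 * 6) EX RL ⟨2 :: [4, 3, 4, 3, 2, 4, 3, 4, 3, 2, 4, 3, 4, 3, 2, 5, 4, 3, 4, 3, 2, 4, 3, 4, 3, 2, 4, 3, 4, 3, 2, 4, 3, 4, 3, 2, 4, 3, 4, 3, 2, 5, 4, 3, 4, 3, 2, 4, 3, 4, 3, 2, 4, 3, 4, 3, 2, 4, 3, 4, 3, 2, 4, 3, 4, 3, 2, 5, 4, 3, 4, 3, 2, 4, 3, 4, 3], [8, 6, 4, 6, 4, 2, 6, 4, 6, 4], 17, true⟩) (lall (memL L) [4, 3, 4, 3, 2, 4, 3, 4, 3, 2, 4, 3, 4, 3, 2, 5, 4, 3, 4, 3, 2, 4, 3, 4, 3, 2, 4, 3, 4, 3, 2, 4, 3,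 4, 3, 2, 4, 3, 4, 3, 2, 5, 4, 3, 4, 3, 2, 4, 3, 4, 3, 2, 4, 3, 4, 3, 2, 4, 3, 4, 3, 2, 4, 3, 4, 3, 2, 5, 4, 3, 4, 3, 2, 4, 3, 4, 3]) = true := by decide +kernel

theorem rot2_11 : T.rot 2 [4, 3, 4, 3, 2, 4, 3, 4, 3, 2, 5, 4, 3, 4, 3, 2, 4, 3, 4, 3, 2, 4, 3, 4, 3, 2, 4, 3, 4, 3, 2, 4, 3, 4, 3, 2, 5, 4, 3, 4, 3, 2, 4, 3, 4, 3, 2, 4, 3, 4, 3, 2, 4, 3, 4, 3, 2, 4, 3, 4, 3, 2, 5, 4, 3, 4, 3, 2, 4, 3, 4, 3, 2, 4, 3, 4, 3] (sel (ones 2080) ip2 11) = true := by decide +kernel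

theorem rot2_11r : band (Rule.ok (2 * 6) EX RL ⟨2 :: [4, 3, 4, 3, 2, 4, 3, 4, 3, 2, 5, 4, 3, 4, 3, 2, 4, 3, 4, 3, 2, 4, 3, 4, 3, 2, 4, 3, 4, 3, 2, 4, 3, 4, 3, 2, 5, 4, 3, 4, 3, 2, 4, 3, 4, 3, 2, 4, 3, 4, 3, 2, 4, 3, 4, 3, 2, 4, 3, 4, 3, 2, 5, 4, 3, 4, 3, 2, 4, 3, 4, 3, 2, 4, 3, 4, 3], [2, 4, 6, 4, 6, 2, 4, 6, 4, 6, 2], 17, true⟩) (lall (memL L) [4, 3, 4, 3, 2, 4, 3, 4, 3, 2, 5, 4, 3, 4, 3, 2, 4, 3, 4, 3, 2, 4, 3, 4, 3, 2, 4, 3, 4, 3, 2, 4, 3, 4, 3, 2, 5, 4, 3, 4, 3, 2, 4, 3, 4, 3, 2, 4, 3, 4, 3, 2, 4, 3, 4, 3, 2, 4, 3, 4, 3, 2, 5, 4, 3, 4, 3, 2, 4, 3, 4, 3, 2, 4, 3, 4, 3]) = true := by decide +kernel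

theorem rot2_12 : T.rot 2 [4, 3, 4, 3, 2, 5, 4, 3, 4, 3, 2, 4, 3, 4, 3, 2, 4, 3, 4, 3, 2, 4, 3, 4, 3, 2, 4, 3, 4, 3, 2, 5, 4, 3, 4, 3, 2, 4, 3, 4, 3, 2, 4, 3, 4, 3, 2, 4, 3, 4, 3, 2, 4, 3, 4, 3, 2, 5, 4, 3, 4, 3, 2, 4, 3, 4, 3, 2, 4, 3, 4, 3, 2, 4, 3, 4, 3] (sel (ones 2080) ip2 12) = true := by decide +kernel

theorem rot2_12r : band (Rule.ok (2 * 6) EX RL ⟨2 :: [4, 3, 4, 3, 2, 5, 4, 3, 4, 3, 2, 4, 3, 4, 3, 2, 4, 3, 4, 3, 2, 4, 3, 4, 3, 2, 4, 3, 4, 3, 2, 5, 4, 3, 4, 3, 2, 4, 3, 4, 3, 2, 4, 3, 4, 3, 2, 4, 3, 4, 3, 2, 4, 3, 4, 3, 2, 5, 4, 3, 4, 3, 2, 4, 3, 4, 3, 2, 4, 3, 4, 3, 2, 4, 3, 4, 3], [2, 4, 6, 4, 6, 2], 17, true⟩) (lall (memL L) [4, 3, 4, 3, 2, 5, 4, 3, 4, 3, 2, 4, 3, 4, 3, 2, 4, 3, 4, 3, 2, 4, 3, 4, 3, 2, 4, 3, 4, 3, 2, 5, 4, 3, 4, 3, 2,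 4, 3, 4, 3, 2, 4, 3, 4, 3, 2, 4, 3, 4, 3, 2, 4, 3, 4, 3, 2, 5, 4, 3, 4, 3, 2, 4, 3, 4, 3, 2, 4, 3, 4, 3, 2, 4, 3, 4, 3]) = true := by decide +kernel

theorem rot2_13 : T.rot 2 [5, 4, 3, 4, 3, 2, 4, 3, 4, 3, 2, 4, 3, 4, 3, 2, 4, 3, 4, 3, 2, 4, 3, 4, 3, 2, 5, 4, 3, 4, 3, 2, 4, 3, 4, 3, 2, 4, 3, 4, 3, 2, 4, 3, 4, 3, 2, 4, 3, 4, 3, 2, 5, 4, 3, 4, 3, 2, 4, 3, 4, 3, 2, 4, 3, 4, 3, 2, 4, 3, 4, 3, 2, 4, 3, 4, 3] (sel (ones 2080) ip2 13) = true := by decide +kernel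

theorem rot2_13r : band (Rule.ok (2 * 6) EX RL ⟨2 :: [5, 4, 3, 4, 3, 2, 4, 3, 4, 3, 2, 4, 3, 4, 3, 2, 4, 3, 4, 3, 2, 4, 3, 4, 3, 2, 5, 4, 3, 4, 3, 2, 4, 3, 4, 3, 2, 4, 3, 4, 3, 2, 4, 3, 4, 3, 2, 4, 3, 4, 3, 2, 5, 4, 3, 4, 3, 2, 4, 3, 4, 3, 2, 4, 3, 4, 3, 2, 4, 3, 4, 3, 2, 4, 3, 4, 3], [2], 17, true⟩) (lall (memL L) [5, 4, 3, 4, 3, 2, 4, 3, 4, 3, 2, 4, 3, 4, 3, 2, 4, 3, 4, 3, 2, 4, 3, 4, 3, 2, 5, 4, 3, 4, 3, 2, 4, 3, 4, 3, 2, 4, 3, 4, 3, 2, 4, 3, 4, 3, 2, 4, 3, 4, 3, 2, 5, 4, 3, 4, 3, 2, 4, 3, 4, 3, 2, 4, 3, 4, 3, 2, 4, 3, 4, 3, 2, 4, 3, 4, 3]) = true := by decide +kernel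

theorem rot2_14 : T.rot 2 [3, 4, 3, 4, 2, 3, 4, 3, 4, 2, 3, 4, 3, 4, 2, 3, 4, 3, 4, 2, 3, 4, 3, 4, 5, 2, 3, 4, 3, 4, 2, 3, 4, 3, 4, 2, 3, 4, 3, 4, 2, 3, 4, 3, 4, 2, 3, 4, 3, 4, 5, 2, 3, 4, 3, 4, 2, 3, 4, 3, 4, 2, 3, 4, 3, 4, 2, 3, 4, 3, 4, 2, 3, 4, 3, 4, 5] (sel (ones 2080) ip2 14) = true := by decide +kernel

theorem rot2_14r : band (Rule.ok (2 * 6) EX RL ⟨2 :: [3, 4, 3, 4, 2, 3, 4, 3, 4, 2, 3, 4, 3, 4, 2, 3, 4, 3, 4, 2, 3, 4, 3, 4, 5, 2, 3, 4, 3, 4, 2, 3, 4, 3, 4, 2, 3, 4, 3, 4, 2, 3, 4, 3, 4, 2, 3, 4, 3, 4, 5, 2, 3, 4, 3, 4, 2, 3, 4, 3, 4, 2, 3, 4, 3, 4, 2, 3, 4, 3, 4, 2, 3, 4, 3, 4, 5], [], 17, false⟩) (lall (memL L) [3, 4, 3, 4, 2, 3, 4, 3, 4, 2, 3, 4, 3, 4, 2, 3, 4, 3, 4, 2, 3, 4, 3, 4, 5, 2, 3, 4, 3, 4, 2, 3, 4, 3, 4, 2, 3, 4, 3, 4, 2, 3,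 4, 3, 4, 2, 3, 4, 3, 4, 5, 2, 3, 4, 3, 4, 2, 3, 4, 3, 4, 2, 3, 4, 3, 4, 2, 3, 4, 3, 4, 2, 3, 4, 3, 4, 5]) = true := by decide +kernel

theorem rot2_15 : T.rot 2 [3, 4, 3, 4, 2, 3, 4, 3, 4, 2, 3, 4, 3, 4, 2, 3, 4, 3, 4, 5, 2, 3, 4, 3, 4, 2, 3, 4, 3, 4, 2, 3, 4, 3, 4, 2, 3, 4, 3, 4, 2, 3, 4, 3, 4, 5, 2, 3, 4, 3, 4, 2, 3, 4, 3, 4, 2, 3, 4, 3, 4, 2, 3, 4, 3, 4, 2, 3, 4, 3, 4, 5, 2, 3, 4, 3, 4] (sel (ones 2080) ip2 15) = true := by decide +kernel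

theorem rot2_15r : band (Rule.ok (2 * 6) EX RL ⟨2 :: [3, 4, 3, 4, 2, 3, 4, 3, 4, 2, 3, 4, 3, 4, 2, 3, 4, 3, 4, 5, 2, 3, 4, 3, 4, 2, 3, 4, 3, 4, 2, 3, 4, 3, 4, 2, 3, 4, 3, 4, 2, 3, 4, 3, 4, 5, 2, 3, 4, 3, 4, 2, 3, 4, 3, 4, 2, 3, 4, 3, 4, 2, 3, 4, 3, 4, 2, 3, 4, 3, 4, 5, 2, 3, 4, 3, 4], [2, 4, 6, 4, 6], 17, false⟩) (lall (memL L) [3, 4, 3, 4, 2, 3, 4, 3, 4, 2, 3, 4, 3, 4, 2, 3, 4, 3, 4, 5, 2, 3, 4, 3, 4, 2, 3, 4, 3, 4, 2, 3, 4, 3, 4, 2, 3, 4, 3, 4, 2, 3, 4, 3, 4, 5, 2, 3, 4, 3, 4, 2, 3, 4, 3, 4, 2, 3, 4, 3, 4, 2, 3, 4, 3, 4, 2, 3, 4, 3, 4, 5, 2, 3, 4, 3, 4]) = true := by decide +kernel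

theorem rot2_16 : T.rot 2 [3, 4, 3, 4, 2, 3, 4, 3, 4, 2, 3, 4, 3, 4, 5, 2, 3, 4, 3, 4, 2, 3, 4, 3, 4, 2, 3, 4, 3, 4, 2, 3, 4, 3, 4, 2, 3, 4, 3, 4, 5, 2, 3, 4, 3, 4, 2, 3, 4, 3, 4, 2, 3, 4, 3, 4, 2, 3, 4, 3, 4, 2, 3, 4, 3, 4, 5, 2, 3, 4, 3, 4, 2, 3, 4, 3, 4] (sel (ones 2080) ip2 16) = true := by decide +kernel

theorem rot2_16r : band (Rule.ok (2 * 6) EX RL ⟨2 :: [3, 4, 3, 4, 2, 3, 4, 3, 4, 2, 3, 4, 3, 4, 5, 2, 3, 4, 3, 4, 2, 3, 4, 3, 4, 2, 3, 4, 3, 4, 2, 3, 4, 3, 4, 2, 3, 4, 3, 4, 5, 2, 3, 4, 3, 4, 2, 3, 4, 3, 4, 2, 3, 4, 3, 4, 2, 3, 4, 3, 4, 2, 3, 4, 3, 4, 5, 2, 3, 4, 3, 4, 2, 3, 4, 3, 4], [2, 4, 6, 4, 6, 2, 4, 6, 4, 6], 17, false⟩) (lall (memL L) [3, 4, 3, 4, 2, 3, 4, 3, 4, 2, 3, 4, 3, 4, 5, 2, 3, 4, 3, 4, 2, 3, 4, 3, 4, 2, 3, 4, 3, 4, 2, 3,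 4, 3, 4, 2, 3, 4, 3, 4, 5, 2, 3, 4, 3, 4, 2, 3, 4, 3, 4, 2, 3, 4, 3, 4, 2, 3, 4, 3, 4, 2, 3, 4, 3, 4, 5, 2, 3, 4, 3, 4, 2, 3, 4, 3, 4]) = true := by decide +kernel

theorem rot2_17 : T.rot 2 [3, 4, 3, 4, 5, 2, 3, 4, 3, 4, 2, 3, 4, 3, 4, 2, 3, 4, 3, 4, 2, 3, 4, 3, 4, 2, 3, 4, 3, 4, 5, 2, 3, 4, 3, 4, 2, 3, 4, 3, 4, 2, 3, 4, 3, 4, 2, 3, 4, 3, 4, 2, 3, 4, 3, 4, 5, 2, 3, 4, 3, 4, 2, 3, 4, 3, 4, 2, 3, 4, 3, 4, 2, 3, 4, 3, 4] (sel (ones 2080) ip2 17) = true := by decide +kernel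

theorem rot2_17r : band (Rule.ok (2 * 6) EX RL ⟨2 :: [3, 4, 3, 4, 5, 2, 3, 4, 3, 4, 2, 3, 4, 3, 4, 2, 3, 4, 3, 4, 2, 3, 4, 3, 4, 2, 3, 4, 3, 4, 5, 2, 3, 4, 3, 4, 2, 3, 4, 3, 4, 2, 3, 4, 3, 4, 2, 3, 4, 3, 4, 2, 3, 4, 3, 4, 5, 2, 3, 4, 3, 4, 2, 3, 4, 3, 4, 2, 3, 4, 3, 4, 2, 3, 4, 3, 4], [8, 6, 4, 6, 4, 2], 17, false⟩) (lall (memL L) [3, 4, 3, 4, 5, 2, 3, 4, 3, 4, 2, 3, 4, 3, 4, 2, 3, 4, 3, 4, 2, 3, 4, 3, 4, 2, 3, 4, 3, 4, 5, 2, 3, 4, 3, 4, 2, 3, 4, 3, 4, 2, 3, 4, 3, 4, 2, 3, 4, 3, 4, 2, 3, 4, 3, 4, 5, 2, 3, 4, 3, 4, 2, 3, 4, 3, 4, 2, 3, 4, 3, 4, 2, 3, 4, 3, 4]) = true := by decide +kernel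

theorem cov2 : T.cover 2 [(sel (ones 2080) ip2 1), (sel (ones 2080) ip2 2), (sel (ones 2080) ip2 3), (sel (ones 2080) ip2 4), (sel (ones 2080) ip2 5), (sel (ones 2080) ip2 6), (sel (ones 2080) ip2 7), (sel (ones 2080) ip2 8), (sel (ones 2080) ip2 9), (sel (ones 2080) ip2 10), (sel (ones 2080) ip2 11), (sel (ones 2080) ip2 12), (sel (ones 2080) ip2 13), (sel (ones 2080) ip2 14), (sel (ones 2080) ip2 15), (sel (ones 2080) ip2 16), (sel (ones 2080) ip2 17), 1] = true := by decide +kernel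

theorem tl2 : T.treeLt 12 2 = true := by decide +kernel

theorem rot3_1 : T.rot 3 [3] (sel (ones 2080) ip3 1) = true := by decide +kernel

theorem rot3_1r : band (Rule.ok (2 * 6) EX RL ⟨3 :: [3], [], 18, false⟩) (lall (memL L) [3]) = true := by decide +kernel

theorem rot3_2 : T.rot 3 [1, 3, 1] (sel (ones 2080) ip3 2) = true := by decide +kernel

theorem rot3_2r : band (Rule.ok (2 * 6) EX RL ⟨3 :: [1, 3, 1], [], 1, true⟩) (lall (memL L) [1, 3, 1]) = true := by decide +kernel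

theorem rot3_3 : T.rot 3 [5, 3, 5] (sel (ones 2080) ip3 3) = true := by decide +kernel

theorem rot3_3r : band (Rule.ok (2 * 6) EX RL ⟨3 :: [5, 3, 5], [], 10, false⟩) (lall (memL L) [5, 3, 5]) = true := by decide +kernel

theorem rot3_4 : T.rot 3 [6, 3, 6] (sel (ones 2080) ip3 4) = true := by decide +kernel

theorem rot3_4r : band (Rule.ok (2 * 6) EX RL ⟨3 :: [6, 3, 6], [], 11, false⟩) (lall (memL L) [6, 3, 6]) = true := by decide +kernel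

theorem rot3_5 : T.rot 3 [2, 3, 2, 3, 2] (sel (ones 2080) ip3 5) = true := by decide +kernel

theorem rot3_5r : band (Rule.ok (2 * 6) EX RL ⟨3 :: [2, 3, 2, 3, 2], [], 5, true⟩) (lall (memL L) [2, 3, 2, 3, 2]) = true := by decide +kernel

theorem rot3_6 : T.rot 3 [4, 3, 4, 3, 4, 3, 4, 1] (sel (ones 2080) ip3 6) = true := by decide +kernel

theorem rot3_6r : band (Rule.ok (2 * 6) EX RL ⟨3 :: [4, 3, 4, 3, 4, 3, 4, 1], [], 15, true⟩) (lall (memL L) [4, 3, 4, 3, 4, 3, 4, 1]) = true := by decide +kernel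

theorem rot3_7 : T.rot 3 [4, 3, 4, 3, 4, 1, 3, 4] (sel (ones 2080) ip3 7) = true := by decide +kernel

theorem rot3_7r : band (Rule.ok (2 * 6) EX RL ⟨3 :: [4, 3, 4, 3, 4, 1, 3, 4], [4, 6], 15, true⟩) (lall (memL L) [4, 3, 4, 3, 4, 1, 3, 4]) = true := by decide +kernel

theorem rot3_8 : T.rot 3 [4, 3, 4, 1, 3, 4, 3, 4] (sel (ones 2080) ip3 8) = true := by decide +kernel

theorem rot3_8r : band (Rule.ok (2 * 6) EX RL ⟨3 :: [4, 3, 4, 1, 3, 4, 3, 4], [4, 6, 4, 6], 15, true⟩) (lall (memL L) [4, 3, 4, 1, 3, 4, 3, 4]) = true := by decide +kernel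

theorem rot3_9 : T.rot 3 [4, 1, 3, 4, 3, 4, 3, 4] (sel (ones 2080) ip3 9) = true := by decide +kernel

theorem rot3_9r : band (Rule.ok (2 * 6) EX RL ⟨3 :: [4, 1, 3, 4, 3, 4, 3, 4], [0, 6, 4], 15, true⟩) (lall (memL L) [4, 1, 3, 4, 3, 4, 3, 4]) = true := by decide +kernel

theorem rot3_10 : T.rot 3 [4, 3, 4, 3, 4, 3, 1, 4] (sel (ones 2080) ip3 10) = true := by decide +kernel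

theorem rot3_10r : band (Rule.ok (2 * 6) EX RL ⟨3 :: [4, 3, 4, 3, 4, 3, 1, 4], [0, 6], 15, false⟩) (lall (memL L) [4, 3, 4, 3, 4, 3, 1, 4]) = true := by decide +kernel

theorem rot3_11 : T.rot 3 [4, 3, 4, 3, 1, 4, 3, 4] (sel (ones 2080) ip3 11) = true := by decide +kernel

theorem rot3_11r : band (Rule.ok (2 * 6) EX RL ⟨3 :: [4, 3, 4, 3, 1, 4, 3, 4], [0, 6, 4, 6], 15, false⟩) (lall (memL L) [4, 3, 4, 3, 1, 4, 3, 4]) = true := by decide +kernel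

theorem rot3_12 : T.rot 3 [1, 4, 3, 4, 3, 4, 3, 4] (sel (ones 2080) ip3 12) = true := by decide +kernel

theorem rot3_12r : band (Rule.ok (2 * 6) EX RL ⟨3 :: [1, 4, 3, 4, 3, 4, 3, 4], [4], 15, false⟩) (lall (memL L) [1, 4, 3, 4, 3, 4, 3, 4]) = true := by decide +kernel

theorem rot3_13 : T.rot 3 [4, 3, 4, 3, 4, 3, 4, 3, 4, 3, 4, 3, 4, 3, 4] (sel (ones 2080) ip3 13) = true := by decide +kernel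

theorem rot3_13r : band (Rule.ok (2 * 6) EX RL ⟨3 :: [4, 3, 4, 3, 4, 3, 4, 3, 4, 3, 4, 3, 4, 3, 4], [], 9, false⟩) (lall (memL L) [4, 3, 4, 3, 4, 3, 4, 3, 4, 3, 4, 3, 4, 3, 4]) = true := by decide +kernel

theorem rot3_14 : T.rot 3 [2, 1, 6, 3, 2, 1, 6, 3, 2, 1, 6, 3, 2, 1, 6, 3, 2, 1, 6] (sel (ones 2080) ip3 14) = true := by decide +kernel

theorem rot3_14r : band (Rule.ok (2 * 6) EX RL ⟨3 :: [2, 1, 6, 3, 2, 1, 6, 3, 2, 1, 6, 3, 2, 1, 6, 3, 2, 1, 6], [10], 16, true⟩) (lall (memL L) [2, 1, 6, 3, 2, 1, 6, 3, 2, 1, 6, 3, 2, 1, 6, 3, 2, 1, 6]) = true := by decide +kernel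

theorem rot3_15 : T.rot 3 [6, 1, 2, 3, 6, 1, 2, 3, 6, 1, 2, 3, 6, 1, 2, 3, 6, 1, 2] (sel (ones 2080) ip3 15) = true := by decide +kernel

theorem rot3_15r : band (Rule.ok (2 * 6) EX RL ⟨3 :: [6, 1, 2, 3, 6, 1, 2, 3, 6, 1, 2, 3, 6, 1, 2, 3, 6, 1, 2], [10, 4], 16, false⟩) (lall (memL L) [6, 1, 2, 3, 6, 1, 2, 3, 6, 1, 2, 3, 6, 1, 2, 3, 6, 1, 2]) = true := by decide +kernel

theorem rot3_16 : T.rot 3 [4, 3, 2, 4, 3, 4, 3, 2, 4, 3, 4, 3, 2, 4, 3, 4, 3, 2, 4, 3, 4, 3, 2, 5, 4, 3, 4, 3, 2, 4, 3, 4, 3, 2, 4, 3, 4, 3, 2, 4, 3, 4, 3, 2, 4, 3, 4, 3, 2, 5, 4, 3, 4, 3, 2, 4, 3, 4, 3, 2, 4, 3, 4, 3, 2, 4, 3, 4, 3, 2, 4, 3, 4, 3, 2, 5, 4] (sel (ones 2080) ip3 16) = true := by decide +kernel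

theorem rot3_16r : band (Rule.ok (2 * 6) EX RL ⟨3 :: [4, 3, 2, 4, 3, 4, 3, 2, 4, 3, 4, 3, 2, 4, 3, 4, 3, 2, 4, 3, 4, 3, 2, 5, 4, 3, 4, 3, 2, 4, 3, 4, 3, 2, 4, 3, 4, 3, 2, 4, 3, 4, 3, 2, 4, 3, 4, 3, 2, 5, 4, 3, 4, 3, 2, 4, 3, 4, 3, 2, 4, 3, 4, 3, 2, 4, 3, 4, 3, 2, 4, 3, 4, 3, 2, 5, 4], [8, 6], 17, true⟩) (lall (memL L) [4, 3, 2, 4, 3, 4, 3, 2, 4, 3, 4, 3, 2, 4, 3, 4, 3, 2, 4, 3, 4, 3, 2, 5, 4, 3, 4, 3, 2, 4, 3, 4, 3, 2, 4, 3, 4, 3, 2, 4, 3, 4, 3, 2, 4, 3, 4, 3, 2, 5, 4, 3, 4, 3, 2, 4, 3, 4, 3, 2, 4, 3, 4, 3, 2, 4, 3, 4, 3, 2, 4, 3, 4, 3, 2, 5, 4]) = true := by decide +kernel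

theorem rot3_17 : T.rot 3 [2, 4, 3, 4, 3, 2, 4, 3, 4, 3, 2, 4, 3, 4, 3, 2, 4, 3, 4, 3, 2, 5, 4, 3, 4, 3, 2, 4, 3, 4, 3, 2, 4, 3, 4, 3, 2, 4, 3, 4, 3, 2, 4, 3, 4, 3, 2, 5, 4, 3, 4, 3, 2, 4, 3, 4, 3, 2, 4, 3, 4, 3, 2, 4, 3, 4, 3, 2, 4, 3, 4, 3, 2, 5, 4, 3, 4] (sel (ones 2080) ip3 17) = true := by decide +kernel

theorem rot3_17r : band (Rule.ok (2 * 6) EX RL ⟨3 :: [2, 4, 3, 4, 3, 2, 4, 3, 4, 3, 2, 4, 3, 4, 3, 2, 4, 3, 4, 3, 2, 5, 4, 3, 4, 3, 2, 4, 3, 4, 3, 2, 4, 3, 4, 3, 2, 4, 3, 4, 3, 2, 4, 3, 4, 3, 2, 5, 4, 3, 4, 3, 2, 4, 3, 4, 3, 2, 4, 3, 4, 3, 2, 4, 3, 4, 3, 2, 4, 3, 4, 3, 2, 5, 4, 3, 4], [8, 6, 4, 6], 17, true⟩) (lall (memL L) [2, 4, 3, 4, 3, 2, 4, 3, 4, 3, 2, 4, 3, 4, 3, 2, 4, 3, 4, 3, 2, 5, 4, 3, 4, 3, 2, 4, 3, 4, 3, 2, 4, 3, 4, 3, 2, 4, 3,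 4, 3, 2, 4, 3, 4, 3, 2, 5, 4, 3, 4, 3, 2, 4, 3, 4, 3, 2, 4, 3, 4, 3, 2, 4, 3, 4, 3, 2, 4, 3, 4, 3, 2, 5, 4, 3, 4]) = true := by decide +kernel

theorem rot3_18 : T.rot 3 [4, 3, 2, 4, 3, 4, 3, 2, 4, 3, 4, 3, 2, 4, 3, 4, 3, 2, 5, 4, 3, 4, 3, 2, 4, 3, 4, 3, 2, 4, 3, 4, 3, 2, 4, 3, 4, 3, 2, 4, 3, 4, 3, 2, 5, 4, 3, 4, 3, 2, 4, 3, 4, 3, 2, 4, 3, 4, 3, 2, 4, 3, 4, 3, 2, 4, 3, 4, 3, 2, 5, 4, 3, 4, 3, 2, 4] (sel (ones 2080) ip3 18) = true := by decide +kernel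

theorem rot3_18r : band (Rule.ok (2 * 6) EX RL ⟨3 :: [4, 3, 2, 4, 3, 4, 3, 2, 4, 3, 4, 3, 2, 4, 3, 4, 3, 2, 5, 4, 3, 4, 3, 2, 4, 3, 4, 3, 2, 4, 3, 4, 3, 2, 4, 3, 4, 3, 2, 4, 3, 4, 3, 2, 5, 4, 3, 4, 3, 2, 4, 3, 4, 3, 2, 4, 3, 4, 3, 2, 4, 3, 4, 3, 2, 4, 3, 4, 3, 2, 5, 4, 3, 4, 3, 2, 4], [8, 6, 4, 6, 4, 2, 6], 17, true⟩) (lall (memL L) [4, 3, 2, 4, 3, 4, 3, 2, 4, 3, 4, 3, 2, 4, 3, 4, 3, 2, 5, 4, 3, 4, 3, 2, 4, 3, 4, 3, 2, 4, 3, 4, 3, 2, 4, 3, 4, 3, 2, 4, 3, 4, 3, 2, 5, 4, 3, 4, 3, 2, 4, 3, 4, 3, 2, 4, 3, 4, 3, 2, 4, 3, 4, 3, 2, 4, 3, 4, 3, 2, 5, 4, 3, 4, 3, 2, 4]) = true := by decide +kernel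

theorem rot3_19 : T.rot 3 [2, 4, 3, 4, 3, 2, 4, 3, 4, 3, 2, 4, 3, 4, 3, 2, 5, 4, 3, 4, 3, 2, 4, 3, 4, 3, 2, 4, 3, 4, 3, 2, 4, 3, 4, 3, 2, 4, 3, 4, 3, 2, 5, 4, 3, 4, 3, 2, 4, 3, 4, 3, 2, 4, 3, 4, 3, 2, 4, 3, 4, 3, 2, 4, 3, 4, 3, 2, 5, 4, 3, 4, 3, 2, 4, 3, 4] (sel (ones 2080) ip3 19) = true := by decide +kernel

theorem rot3_19r : band (Rule.ok (2 * 6) EX RL ⟨3 :: [2, 4, 3, 4, 3, 2, 4, 3, 4, 3, 2, 4, 3, 4, 3, 2, 5, 4, 3, 4, 3, 2, 4, 3, 4, 3, 2, 4, 3, 4, 3, 2, 4, 3, 4, 3, 2, 4, 3, 4, 3, 2, 5, 4, 3, 4, 3, 2, 4, 3, 4, 3, 2, 4, 3, 4, 3, 2, 4, 3, 4, 3, 2, 4, 3, 4, 3, 2, 5, 4, 3, 4, 3, 2, 4, 3, 4], [8, 6, 4, 6, 4, 2, 6, 4, 6], 17, true⟩) (lall (memL L) [2, 4, 3, 4, 3, 2, 4, 3, 4, 3, 2, 4, 3, 4, 3, 2, 5, 4, 3, 4, 3, 2, 4, 3, 4, 3, 2, 4, 3, 4, 3, 2, 4, 3,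 4, 3, 2, 4, 3, 4, 3, 2, 5, 4, 3, 4, 3, 2, 4, 3, 4, 3, 2, 4, 3, 4, 3, 2, 4, 3, 4, 3, 2, 4, 3, 4, 3, 2, 5, 4, 3, 4, 3, 2, 4, 3, 4]) = true := by decide +kernel

theorem rot3_20 : T.rot 3 [4, 3, 2, 4, 3, 4, 3, 2, 4, 3, 4, 3, 2, 5, 4, 3, 4, 3, 2, 4, 3, 4, 3, 2, 4, 3, 4, 3, 2, 4, 3, 4, 3, 2, 4, 3, 4, 3, 2, 5, 4, 3, 4, 3, 2, 4, 3, 4, 3, 2, 4, 3, 4, 3, 2, 4, 3, 4, 3, 2, 4, 3, 4, 3, 2, 5, 4, 3, 4, 3, 2, 4, 3, 4, 3, 2, 4] (sel (ones 2080) ip3 20) = true := by decide +kernel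

theorem rot3_20r : band (Rule.ok (2 * 6) EX RL ⟨3 :: [4, 3, 2, 4, 3, 4, 3, 2, 4, 3, 4, 3, 2, 5, 4, 3, 4, 3, 2, 4, 3, 4, 3, 2, 4, 3, 4, 3, 2, 4, 3, 4, 3, 2, 4, 3, 4, 3, 2, 5, 4, 3, 4, 3, 2, 4, 3, 4, 3, 2, 4, 3, 4, 3, 2, 4, 3, 4, 3, 2, 4, 3, 4, 3, 2, 5, 4, 3, 4, 3, 2, 4, 3, 4, 3, 2, 4], [8, 6, 4, 6, 4, 2, 6, 4, 6, 4, 2, 6], 17, true⟩) (lall (memL L) [4, 3, 2, 4, 3, 4, 3, 2, 4, 3, 4, 3, 2, 5, 4, 3, 4, 3, 2, 4, 3, 4, 3, 2, 4, 3, 4, 3, 2, 4, 3, 4, 3, 2, 4, 3, 4, 3, 2, 5, 4, 3, 4, 3, 2, 4, 3, 4, 3, 2, 4, 3, 4, 3, 2, 4, 3, 4, 3, 2, 4, 3, 4, 3, 2, 5, 4, 3, 4, 3, 2, 4, 3, 4, 3, 2, 4]) = true := by decide +kernel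

theorem rot3_21 : T.rot 3 [2, 4, 3, 4, 3, 2, 4, 3, 4, 3, 2, 5, 4, 3, 4, 3, 2, 4, 3, 4, 3, 2, 4, 3, 4, 3, 2, 4, 3, 4, 3, 2, 4, 3, 4, 3, 2, 5, 4, 3, 4, 3, 2, 4, 3, 4, 3, 2, 4, 3, 4, 3, 2, 4, 3, 4, 3, 2, 4, 3, 4, 3, 2, 5, 4, 3, 4, 3, 2, 4, 3, 4, 3, 2, 4, 3, 4] (sel (ones 2080) ip3 21) = true := by decide +kernel

theorem rot3_21r : band (Rule.ok (2 * 6) EX RL ⟨3 :: [2, 4, 3, 4, 3, 2, 4, 3, 4, 3, 2, 5, 4, 3, 4, 3, 2, 4, 3, 4, 3, 2, 4, 3, 4, 3, 2, 4, 3, 4, 3, 2, 4, 3, 4, 3, 2, 5, 4, 3, 4, 3, 2, 4, 3, 4, 3, 2, 4, 3, 4, 3, 2, 4, 3, 4, 3, 2, 4, 3, 4, 3, 2, 5, 4, 3, 4, 3, 2, 4, 3, 4, 3, 2, 4, 3, 4], [2, 4, 6, 4, 6, 2, 4, 6, 4, 6, 2, 4], 17, true⟩) (lall (memL L) [2, 4, 3, 4, 3, 2, 4, 3, 4, 3, 2, 5, 4, 3, 4, 3, 2, 4, 3, 4, 3, 2, 4, 3, 4, 3, 2, 4, 3, 4, 3,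 2, 4, 3, 4, 3, 2, 5, 4, 3, 4, 3, 2, 4, 3, 4, 3, 2, 4, 3, 4, 3, 2, 4, 3, 4, 3, 2, 4, 3, 4, 3, 2, 5, 4, 3, 4, 3, 2, 4, 3, 4, 3, 2, 4, 3, 4]) = true := by decide +kernel

theorem rot3_22 : T.rot 3 [4, 3, 2, 4, 3, 4, 3, 2, 5, 4, 3, 4, 3, 2, 4, 3, 4, 3, 2, 4, 3, 4, 3, 2, 4, 3, 4, 3, 2, 4, 3, 4, 3, 2, 5, 4, 3, 4, 3, 2, 4, 3, 4, 3, 2, 4, 3, 4, 3, 2, 4, 3, 4, 3, 2, 4, 3, 4, 3, 2, 5, 4, 3, 4, 3, 2, 4, 3, 4, 3, 2, 4, 3, 4, 3, 2, 4] (sel (ones 2080) ip3 22) = true := by decide +kernel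

theorem rot3_22r : band (Rule.ok (2 * 6) EX RL ⟨3 :: [4, 3, 2, 4, 3, 4, 3, 2, 5, 4, 3, 4, 3, 2, 4, 3, 4, 3, 2, 4, 3, 4, 3, 2, 4, 3, 4, 3, 2, 4, 3, 4, 3, 2, 5, 4, 3, 4, 3, 2, 4, 3, 4, 3, 2, 4, 3, 4, 3, 2, 4, 3, 4, 3, 2, 4, 3, 4, 3, 2, 5, 4, 3, 4, 3, 2, 4, 3, 4, 3, 2, 4, 3, 4, 3, 2, 4], [2, 4, 6, 4, 6, 2, 4, 6, 4], 17, true⟩) (lall (memL L) [4, 3, 2, 4, 3, 4, 3, 2, 5, 4, 3, 4, 3, 2, 4, 3, 4, 3, 2, 4, 3, 4, 3, 2, 4, 3, 4, 3, 2, 4, 3, 4, 3, 2, 5, 4, 3, 4, 3, 2, 4, 3, 4, 3, 2, 4, 3, 4, 3, 2, 4, 3, 4, 3, 2, 4, 3, 4, 3, 2, 5, 4, 3, 4, 3, 2, 4, 3, 4, 3, 2, 4, 3, 4, 3, 2, 4]) = true := by decide +kernel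

theorem rot3_23 : T.rot 3 [2, 4, 3, 4, 3, 2, 5, 4, 3, 4, 3, 2, 4, 3, 4, 3, 2, 4, 3, 4, 3, 2, 4, 3, 4, 3, 2, 4, 3, 4, 3, 2, 5, 4, 3, 4, 3, 2, 4, 3, 4, 3, 2, 4, 3, 4, 3, 2, 4, 3, 4, 3, 2, 4, 3, 4, 3, 2, 5, 4, 3, 4, 3, 2, 4, 3, 4, 3, 2, 4, 3, 4, 3, 2, 4, 3, 4] (sel (ones 2080) ip3 23) = true := by decide +kernel

theorem rot3_23r : band (Rule.ok (2 * 6) EX RL ⟨3 :: [2, 4, 3, 4, 3, 2, 5, 4, 3, 4, 3, 2, 4, 3, 4, 3, 2, 4, 3, 4, 3, 2, 4, 3, 4, 3, 2, 4, 3, 4, 3, 2, 5, 4, 3, 4, 3, 2, 4, 3, 4, 3, 2, 4, 3, 4, 3, 2, 4, 3, 4, 3, 2, 4, 3, 4, 3, 2, 5, 4, 3, 4, 3, 2, 4, 3, 4, 3, 2, 4, 3, 4, 3, 2, 4, 3, 4], [2, 4, 6, 4, 6, 2, 4], 17, true⟩) (lall (memL L) [2, 4, 3, 4, 3, 2, 5, 4, 3, 4, 3, 2, 4, 3, 4, 3, 2, 4, 3, 4, 3, 2, 4, 3, 4, 3, 2, 4, 3, 4, 3, 2, 5, 4, 3, 4,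 3, 2, 4, 3, 4, 3, 2, 4, 3, 4, 3, 2, 4, 3, 4, 3, 2, 4, 3, 4, 3, 2, 5, 4, 3, 4, 3, 2, 4, 3, 4, 3, 2, 4, 3, 4, 3, 2, 4, 3, 4]) = true := by decide +kernel

theorem rot3_24 : T.rot 3 [4, 3, 2, 5, 4, 3, 4, 3, 2, 4, 3, 4, 3, 2, 4, 3, 4, 3, 2, 4, 3, 4, 3, 2, 4, 3, 4, 3, 2, 5, 4, 3, 4, 3, 2, 4, 3, 4, 3, 2, 4, 3, 4, 3, 2, 4, 3, 4, 3, 2, 4, 3, 4, 3, 2, 5, 4, 3, 4, 3, 2, 4, 3, 4, 3, 2, 4, 3, 4, 3, 2, 4, 3, 4, 3, 2, 4] (sel (ones 2080) ip3 24) = true := by decide +kernel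

theorem rot3_24r : band (Rule.ok (2 * 6) EX RL ⟨3 :: [4, 3, 2, 5, 4, 3, 4, 3, 2, 4, 3, 4, 3, 2, 4, 3, 4, 3, 2, 4, 3, 4, 3, 2, 4, 3, 4, 3, 2, 5, 4, 3, 4, 3, 2, 4, 3, 4, 3, 2, 4, 3, 4, 3, 2, 4, 3, 4, 3, 2, 4, 3, 4, 3, 2, 5, 4, 3, 4, 3, 2, 4, 3, 4, 3, 2, 4, 3, 4, 3, 2, 4, 3, 4, 3, 2, 4], [2, 4, 6, 4], 17, true⟩) (lall (memL L) [4, 3, 2, 5, 4, 3, 4, 3, 2, 4, 3, 4, 3, 2, 4, 3, 4, 3, 2, 4, 3, 4, 3, 2, 4, 3, 4, 3, 2, 5, 4, 3, 4, 3, 2, 4, 3, 4, 3, 2, 4, 3, 4, 3, 2, 4, 3, 4, 3, 2, 4, 3, 4, 3, 2, 5, 4, 3, 4, 3, 2, 4, 3, 4, 3, 2, 4, 3, 4, 3, 2, 4, 3, 4, 3, 2, 4]) = true := by decide +kernel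

theorem rot3_25 : T.rot 3 [4, 2, 3, 4, 3, 4, 2, 3, 4, 3, 4, 2, 3, 4, 3, 4, 2, 3, 4, 3, 4, 5, 2, 3, 4, 3, 4, 2, 3, 4, 3, 4, 2, 3, 4, 3, 4, 2, 3, 4, 3, 4, 2, 3, 4, 3, 4, 5, 2, 3, 4, 3, 4, 2, 3, 4, 3, 4, 2, 3, 4, 3, 4, 2, 3, 4, 3, 4, 2, 3, 4, 3, 4, 5, 2, 3, 4] (sel (ones 2080) ip3 25) = true := by decide +kernel

theorem rot3_25r : band (Rule.ok (2 * 6) EX RL ⟨3 :: [4, 2, 3, 4, 3, 4, 2, 3, 4, 3, 4, 2, 3, 4, 3, 4, 2, 3, 4, 3, 4, 5, 2, 3, 4, 3, 4, 2, 3, 4, 3, 4, 2, 3, 4, 3, 4, 2, 3, 4, 3, 4, 2, 3, 4, 3, 4, 5, 2, 3, 4, 3, 4, 2, 3, 4, 3, 4, 2, 3, 4, 3, 4, 2, 3, 4, 3, 4, 2, 3, 4, 3, 4, 5, 2, 3, 4], [2, 4, 6], 17, false⟩) (lall (memL L) [4, 2, 3, 4, 3, 4, 2, 3, 4, 3, 4, 2, 3, 4, 3, 4, 2, 3, 4, 3, 4, 5, 2, 3, 4, 3, 4, 2, 3, 4, 3, 4, 2, 3, 4, 3, 4, 2, 3,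 4, 3, 4, 2, 3, 4, 3, 4, 5, 2, 3, 4, 3, 4, 2, 3, 4, 3, 4, 2, 3, 4, 3, 4, 2, 3, 4, 3, 4, 2, 3, 4, 3, 4, 5, 2, 3, 4]) = true := by decide +kernel

theorem rot3_26 : T.rot 3 [4, 3, 4, 2, 3, 4, 3, 4, 2, 3, 4, 3, 4, 2, 3, 4, 3, 4, 5, 2, 3, 4, 3, 4, 2, 3, 4, 3, 4, 2, 3, 4, 3, 4, 2, 3, 4, 3, 4, 2, 3, 4, 3, 4, 5, 2, 3, 4, 3, 4, 2, 3, 4, 3, 4, 2, 3, 4, 3, 4, 2, 3, 4, 3, 4, 2, 3, 4, 3, 4, 5, 2, 3, 4, 3, 4, 2] (sel (ones 2080) ip3 26) = true := by decide +kernel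

theorem rot3_26r : band (Rule.ok (2 * 6) EX RL ⟨3 :: [4, 3, 4, 2, 3, 4, 3, 4, 2, 3, 4, 3, 4, 2, 3, 4, 3, 4, 5, 2, 3, 4, 3, 4, 2, 3, 4, 3, 4, 2, 3, 4, 3, 4, 2, 3, 4, 3, 4, 2, 3, 4, 3, 4, 5, 2, 3, 4, 3, 4, 2, 3, 4, 3, 4, 2, 3, 4, 3, 4, 2, 3, 4, 3, 4, 2, 3, 4, 3, 4, 5, 2, 3, 4, 3, 4, 2], [2, 4, 6, 4, 6, 2], 17, false⟩) (lall (memL L) [4, 3, 4, 2, 3, 4, 3, 4, 2, 3, 4, 3, 4, 2, 3, 4, 3, 4, 5, 2, 3, 4, 3, 4, 2, 3, 4, 3, 4, 2, 3, 4, 3, 4, 2, 3, 4, 3, 4, 2, 3, 4, 3, 4, 5, 2, 3, 4, 3, 4, 2, 3, 4, 3, 4, 2, 3, 4, 3, 4, 2, 3, 4, 3, 4, 2, 3, 4, 3, 4, 5, 2, 3, 4, 3, 4, 2]) = true := by decide +kernel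

theorem rot3_27 : T.rot 3 [4, 2, 3, 4, 3, 4, 2, 3, 4, 3, 4, 2, 3, 4, 3, 4, 5, 2, 3, 4, 3, 4, 2, 3, 4, 3, 4, 2, 3, 4, 3, 4, 2, 3, 4, 3, 4, 2, 3, 4, 3, 4, 5, 2, 3, 4, 3, 4, 2, 3, 4, 3, 4, 2, 3, 4, 3, 4, 2, 3, 4, 3, 4, 2, 3, 4, 3, 4, 5, 2, 3, 4, 3, 4, 2, 3, 4] (sel (ones 2080) ip3 27) = true := by decide +kernel

theorem rot3_27r : band (Rule.ok (2 * 6) EX RL ⟨3 :: [4, 2, 3, 4, 3, 4, 2, 3, 4, 3, 4, 2, 3, 4, 3, 4, 5, 2, 3, 4, 3, 4, 2, 3, 4, 3, 4, 2, 3, 4, 3, 4, 2, 3, 4, 3, 4, 2, 3, 4, 3, 4, 5, 2, 3, 4, 3, 4, 2, 3, 4, 3, 4, 2, 3, 4, 3, 4, 2, 3, 4, 3, 4, 2, 3, 4, 3, 4, 5, 2, 3, 4, 3, 4, 2, 3, 4], [2, 4, 6, 4, 6, 2, 4, 6], 17, false⟩) (lall (memL L) [4, 2, 3, 4, 3, 4, 2, 3, 4, 3, 4, 2, 3, 4, 3, 4, 5, 2, 3, 4, 3, 4, 2, 3, 4, 3, 4, 2, 3, 4, 3, 4, 2, 3,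 4, 3, 4, 2, 3, 4, 3, 4, 5, 2, 3, 4, 3, 4, 2, 3, 4, 3, 4, 2, 3, 4, 3, 4, 2, 3, 4, 3, 4, 2, 3, 4, 3, 4, 5, 2, 3, 4, 3, 4, 2, 3, 4]) = true := by decide +kernel

theorem rot3_28 : T.rot 3 [4, 3, 4, 2, 3, 4, 3, 4, 2, 3, 4, 3, 4, 5, 2, 3, 4, 3, 4, 2, 3, 4, 3, 4, 2, 3, 4, 3, 4, 2, 3, 4, 3, 4, 2, 3, 4, 3, 4, 5, 2, 3, 4, 3, 4, 2, 3, 4, 3, 4, 2, 3, 4, 3, 4, 2, 3, 4, 3, 4, 2, 3, 4, 3, 4, 5, 2, 3, 4, 3, 4, 2, 3, 4, 3, 4, 2] (sel (ones 2080) ip3 28) = true := by decide +kernel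

theorem rot3_28r : band (Rule.ok (2 * 6) EX RL ⟨3 :: [4, 3, 4, 2, 3, 4, 3, 4, 2, 3, 4, 3, 4, 5, 2, 3, 4, 3, 4, 2, 3, 4, 3, 4, 2, 3, 4, 3, 4, 2, 3, 4, 3, 4, 2, 3, 4, 3, 4, 5, 2, 3, 4, 3, 4, 2, 3, 4, 3, 4, 2, 3, 4, 3, 4, 2, 3, 4, 3, 4, 2, 3, 4, 3, 4, 5, 2, 3, 4, 3, 4, 2, 3, 4, 3, 4, 2], [2, 4, 6, 4, 6, 2, 4, 6, 4, 6, 2], 17, false⟩) (lall (memL L) [4, 3, 4, 2, 3, 4, 3, 4, 2, 3, 4, 3, 4, 5, 2, 3, 4, 3, 4, 2, 3, 4, 3, 4, 2, 3, 4, 3, 4, 2, 3, 4, 3, 4, 2, 3, 4, 3, 4, 5, 2, 3, 4, 3, 4, 2, 3, 4, 3, 4, 2, 3, 4, 3, 4, 2, 3, 4, 3, 4, 2, 3, 4, 3, 4, 5, 2, 3, 4, 3, 4, 2, 3, 4, 3, 4, 2]) = true := by decide +kernel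

theorem rot3_29 : T.rot 3 [4, 2, 3, 4, 3, 4, 2, 3, 4, 3, 4, 5, 2, 3, 4, 3, 4, 2, 3, 4, 3, 4, 2, 3, 4, 3, 4, 2, 3, 4, 3, 4, 2, 3, 4, 3, 4, 5, 2, 3, 4, 3, 4, 2, 3, 4, 3, 4, 2, 3, 4, 3, 4, 2, 3, 4, 3, 4, 2, 3, 4, 3, 4, 5, 2, 3, 4, 3, 4, 2, 3, 4, 3, 4, 2, 3, 4] (sel (ones 2080) ip3 29) = true := by decide +kernel

theorem rot3_29r : band (Rule.ok (2 * 6) EX RL ⟨3 :: [4, 2, 3, 4, 3, 4, 2, 3, 4, 3, 4, 5, 2, 3, 4, 3, 4, 2, 3, 4, 3, 4, 2, 3, 4, 3, 4, 2, 3, 4, 3, 4, 2, 3, 4, 3, 4, 5, 2, 3, 4, 3, 4, 2, 3, 4, 3, 4, 2, 3, 4, 3, 4, 2, 3, 4, 3, 4, 2, 3, 4, 3, 4, 5, 2, 3, 4, 3, 4, 2, 3, 4, 3, 4, 2, 3, 4], [8, 6, 4, 6, 4, 2, 6, 4, 6, 4, 2, 6, 4], 17, false⟩) (lall (memL L) [4, 2, 3, 4, 3, 4, 2, 3, 4, 3, 4, 5, 2, 3, 4, 3, 4, 2, 3, 4, 3, 4, 2, 3, 4, 3, 4, 2, 3,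 4, 3, 4, 2, 3, 4, 3, 4, 5, 2, 3, 4, 3, 4, 2, 3, 4, 3, 4, 2, 3, 4, 3, 4, 2, 3, 4, 3, 4, 2, 3, 4, 3, 4, 5, 2, 3, 4, 3, 4, 2, 3, 4, 3, 4, 2, 3, 4]) = true := by decide +kernel

theorem rot3_30 : T.rot 3 [4, 3, 4, 2, 3, 4, 3, 4, 5, 2, 3, 4, 3, 4, 2, 3, 4, 3, 4, 2, 3, 4, 3, 4, 2, 3, 4, 3, 4, 2, 3, 4, 3, 4, 5, 2, 3, 4, 3, 4, 2, 3, 4, 3, 4, 2, 3, 4, 3, 4, 2, 3, 4, 3, 4, 2, 3, 4, 3, 4, 5, 2, 3, 4, 3, 4, 2, 3, 4, 3, 4, 2, 3, 4, 3, 4, 2] (sel (ones 2080) ip3 30) = true := by decide +kernel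

theorem rot3_30r : band (Rule.ok (2 * 6) EX RL ⟨3 :: [4, 3, 4, 2, 3, 4, 3, 4, 5, 2, 3, 4, 3, 4, 2, 3, 4, 3, 4, 2, 3, 4, 3, 4, 2, 3, 4, 3, 4, 2, 3, 4, 3, 4, 5, 2, 3, 4, 3, 4, 2, 3, 4, 3, 4, 2, 3, 4, 3, 4, 2, 3, 4, 3, 4, 2, 3, 4, 3, 4, 5, 2, 3, 4, 3, 4, 2, 3, 4, 3, 4, 2, 3, 4, 3, 4, 2], [8, 6, 4, 6, 4, 2, 6, 4, 6, 4], 17, false⟩) (lall (memL L) [4, 3, 4, 2, 3, 4, 3, 4, 5, 2, 3, 4, 3, 4, 2, 3, 4, 3, 4, 2, 3, 4, 3, 4, 2, 3, 4, 3, 4, 2, 3, 4, 3, 4, 5, 2, 3, 4, 3, 4, 2, 3, 4, 3, 4, 2, 3, 4, 3, 4, 2, 3, 4, 3, 4, 2, 3, 4, 3, 4, 5, 2, 3, 4, 3, 4, 2, 3, 4, 3, 4, 2, 3, 4, 3, 4, 2]) = true := by decide +kernel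

theorem rot3_31 : T.rot 3 [4, 2, 3, 4, 3, 4, 5, 2, 3, 4, 3, 4, 2, 3, 4, 3, 4, 2, 3, 4, 3, 4, 2, 3, 4, 3, 4, 2, 3, 4, 3, 4, 5, 2, 3, 4, 3, 4, 2, 3, 4, 3, 4, 2, 3, 4, 3, 4, 2, 3, 4, 3, 4, 2, 3, 4, 3, 4, 5, 2, 3, 4, 3, 4, 2, 3, 4, 3, 4, 2, 3, 4, 3, 4, 2, 3, 4] (sel (ones 2080) ip3 31) = true := by decide +kernel

theorem rot3_31r : band (Rule.ok (2 * 6) EX RL ⟨3 :: [4, 2, 3, 4, 3, 4, 5, 2, 3, 4, 3, 4, 2, 3, 4, 3, 4, 2, 3, 4, 3, 4, 2, 3, 4, 3, 4, 2, 3, 4, 3, 4, 5, 2, 3, 4, 3, 4, 2, 3, 4, 3, 4, 2, 3, 4, 3, 4, 2, 3, 4, 3, 4, 2, 3, 4, 3, 4, 5, 2, 3, 4, 3, 4, 2, 3, 4, 3, 4, 2, 3, 4, 3, 4, 2, 3, 4], [8, 6, 4, 6, 4, 2, 6, 4], 17, false⟩) (lall (memL L) [4, 2, 3, 4, 3, 4, 5, 2, 3, 4, 3, 4, 2, 3, 4, 3, 4, 2, 3, 4, 3, 4, 2, 3, 4, 3, 4, 2, 3, 4, 3, 4, 5, 2,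 3, 4, 3, 4, 2, 3, 4, 3, 4, 2, 3, 4, 3, 4, 2, 3, 4, 3, 4, 2, 3, 4, 3, 4, 5, 2, 3, 4, 3, 4, 2, 3, 4, 3, 4, 2, 3, 4, 3, 4, 2, 3, 4]) = true := by decide +kernel

theorem rot3_32 : T.rot 3 [4, 3, 4, 5, 2, 3, 4, 3, 4, 2, 3, 4, 3, 4, 2, 3, 4, 3, 4, 2, 3, 4, 3, 4, 2, 3, 4, 3, 4, 5, 2, 3, 4, 3, 4, 2, 3, 4, 3, 4, 2, 3, 4, 3, 4, 2, 3, 4, 3, 4, 2, 3, 4, 3, 4, 5, 2, 3, 4, 3, 4, 2, 3, 4, 3, 4, 2, 3, 4, 3, 4, 2, 3, 4, 3, 4, 2] (sel (ones 2080) ip3 32) = true := by decide +kernel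

theorem rot3_32r : band (Rule.ok (2 * 6) EX RL ⟨3 :: [4, 3, 4, 5, 2, 3, 4, 3, 4, 2, 3, 4, 3, 4, 2, 3, 4, 3, 4, 2, 3, 4, 3, 4, 2, 3, 4, 3, 4, 5, 2, 3, 4, 3, 4, 2, 3, 4, 3, 4, 2, 3, 4, 3, 4, 2, 3, 4, 3, 4, 2, 3, 4, 3, 4, 5, 2, 3, 4, 3, 4, 2, 3, 4, 3, 4, 2, 3, 4, 3, 4, 2, 3, 4, 3, 4, 2], [8, 6, 4, 6, 4], 17, false⟩) (lall (memL L) [4, 3, 4, 5, 2, 3, 4, 3, 4, 2, 3, 4, 3, 4, 2, 3, 4, 3, 4, 2, 3, 4, 3, 4, 2, 3, 4, 3, 4, 5, 2, 3, 4, 3, 4, 2, 3, 4, 3, 4, 2, 3, 4, 3, 4, 2, 3, 4, 3, 4, 2, 3, 4, 3, 4, 5, 2, 3, 4, 3, 4, 2, 3, 4, 3, 4, 2, 3, 4, 3, 4, 2, 3, 4, 3, 4, 2]) = true := by decide +kernel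

theorem ep0a : T.treePath [5, 4, 3, 2, 1, 2] (Nat.shiftLeft 1 10) 1 = true := by decide +kernel

theorem ep0b : T.treePath [5, 4, 3, 2, 1, 2, 1] (Nat.shiftLeft 1 16) 1 = true := by decide +kernel

theorem ep0c : band (lall (fun z => Nat.ble z 255) ([5, 4, 3, 2, 1, 2] ++ 3 :: [1, 2, 1, 2, 3, 4, 5])) (concl F IV 361 0x80000c0000a000070000580003c0002e0028c000070000280000c00004000010000000e (encA ([5, 4, 3, 2, 1, 2] ++ 3 :: [1, 2, 1, 2, 3, 4, 5]) 0)) = true := by decide +kernel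

theorem ep0d : band (Rule.ok (2 * 6) EX [] ⟨lapp [5, 4, 3, 2, 1, 2, 1] [1, 2, 1, 2, 3, 4, 5], [], 0, false⟩) (band (lall (memL L) [5, 4, 3, 2, 1, 2]) (lall (memL L) [5, 4, 3, 2, 1, 2, 1])) = true := by decide +kernel

theorem cov3 : T.cover 3 [(sel (ones 2080) ip3 1), (sel (ones 2080) ip3 2), (sel (ones 2080) ip3 3), (sel (ones 2080) ip3 4), (sel (ones 2080) ip3 5), (sel (ones 2080) ip3 6), (sel (ones 2080) ip3 7), (sel (ones 2080) ip3 8), (sel (ones 2080) ip3 9), (sel (ones 2080) ip3 10), (sel (ones 2080) ip3 11), (sel (ones 2080) ip3 12), (sel (ones 2080) ip3 13), (sel (ones 2080) ip3 14), (sel (ones 2080) ip3 15), (sel (ones 2080) ip3 16), (sel (ones 2080) ip3 17), (sel (ones 2080) ip3 18), (sel (ones 2080) ip3 19), (sel (ones 2080) ip3 20),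 (sel (ones 2080) ip3 21), (sel (ones 2080) ip3 22), (sel (ones 2080) ip3 23), (sel (ones 2080) ip3 24), (sel (ones 2080) ip3 25), (sel (ones 2080) ip3 26), (sel (ones 2080) ip3 27), (sel (ones 2080) ip3 28), (sel (ones 2080) ip3 29), (sel (ones 2080) ip3 30), (sel (ones 2080) ip3 31), (sel (ones 2080) ip3 32), 1, (Nat.shiftLeft 1 10)] = true := by decide +kernel

theorem tl3 : T.treeLt 12 3 = true := by decide +kernel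

theorem rot4_1 : T.rot 4 [4] (sel (ones 2080) ip4 1) = true := by decide +kernel

theorem rot4_1r : band (Rule.ok (2 * 6) EX RL ⟨4 :: [4], [], 18, false⟩) (lall (memL L) [4]) = true := by decide +kernel

theorem rot4_2 : T.rot 4 [1, 4, 1] (sel (ones 2080) ip4 2) = true := by decide +kernel

theorem rot4_2r : band (Rule.ok (2 * 6) EX RL ⟨4 :: [1, 4, 1], [], 2, true⟩) (lall (memL L) [1, 4, 1]) = true := by decide +kernel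

theorem rot4_3 : T.rot 4 [2, 4, 2] (sel (ones 2080) ip4 3) = true := by decide +kernel

theorem rot4_3r : band (Rule.ok (2 * 6) EX RL ⟨4 :: [2, 4, 2], [], 6, true⟩) (lall (memL L) [2, 4, 2]) = true := by decide +kernel

theorem rot4_4 : T.rot 4 [6, 4, 6] (sel (ones 2080) ip4 4) = true := by decide +kernel

theorem rot4_4r : band (Rule.ok (2 * 6) EX RL ⟨4 :: [6, 4, 6], [], 13, false⟩) (lall (memL L) [6, 4, 6]) = true := by decide +kernel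

theorem rot4_5 : T.rot 4 [5, 4, 5, 4, 5] (sel (ones 2080) ip4 5) = true := by decide +kernel

theorem rot4_5r : band (Rule.ok (2 * 6) EX RL ⟨4 :: [5, 4, 5, 4, 5], [], 12, false⟩) (lall (memL L) [5, 4, 5, 4, 5]) = true := by decide +kernel

theorem rot4_6 : T.rot 4 [3, 4, 3, 4, 3, 4, 1, 3] (sel (ones 2080) ip4 6) = true := by decide +kernel

theorem rot4_6r : band (Rule.ok (2 * 6) EX RL ⟨4 :: [3, 4, 3, 4, 3, 4, 1, 3], [4], 15, true⟩) (lall (memL L) [3, 4, 3, 4, 3, 4, 1, 3]) = true := by decide +kernel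

theorem rot4_7 : T.rot 4 [3, 4, 3, 4, 1, 3, 4, 3] (sel (ones 2080) ip4 7) = true := by decide +kernel

theorem rot4_7r : band (Rule.ok (2 * 6) EX RL ⟨4 :: [3, 4, 3, 4, 1, 3, 4, 3], [4, 6, 4], 15, true⟩) (lall (memL L) [3, 4, 3, 4, 1, 3, 4, 3]) = true := by decide +kernel

theorem rot4_8 : T.rot 4 [3, 4, 1, 3, 4, 3, 4, 3] (sel (ones 2080) ip4 8) = true := by decide +kernel

theorem rot4_8r : band (Rule.ok (2 * 6) EX RL ⟨4 :: [3, 4, 1, 3, 4, 3, 4, 3], [0, 6, 4, 6], 15, true⟩) (lall (memL L) [3, 4, 1, 3, 4, 3, 4, 3]) = true := by decide +kernel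

theorem rot4_9 : T.rot 4 [1, 3, 4, 3, 4, 3, 4, 3] (sel (ones 2080) ip4 9) = true := by decide +kernel

theorem rot4_9r : band (Rule.ok (2 * 6) EX RL ⟨4 :: [1, 3, 4, 3, 4, 3, 4, 3], [0, 6], 15, true⟩) (lall (memL L) [1, 3, 4, 3, 4, 3, 4, 3]) = true := by decide +kernel

theorem rot4_10 : T.rot 4 [3, 4, 3, 4, 3, 4, 3, 1] (sel (ones 2080) ip4 10) = true := by decide +kernel

theorem rot4_10r : band (Rule.ok (2 * 6) EX RL ⟨4 :: [3, 4, 3, 4, 3, 4, 3, 1], [0], 15, false⟩) (lall (memL L) [3, 4, 3, 4, 3, 4, 3, 1]) = true := by decide +kernel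

theorem rot4_11 : T.rot 4 [3, 4, 3, 4, 3, 1, 4, 3] (sel (ones 2080) ip4 11) = true := by decide +kernel

theorem rot4_11r : band (Rule.ok (2 * 6) EX RL ⟨4 :: [3, 4, 3, 4, 3, 1, 4, 3], [0, 6, 4], 15, false⟩) (lall (memL L) [3, 4, 3, 4, 3, 1, 4, 3]) = true := by decide +kernel

theorem rot4_12 : T.rot 4 [3, 4, 3, 1, 4, 3, 4, 3] (sel (ones 2080) ip4 12) = true := by decide +kernel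

theorem rot4_12r : band (Rule.ok (2 * 6) EX RL ⟨4 :: [3, 4, 3, 1, 4, 3, 4, 3], [4, 6, 4, 6], 15, false⟩) (lall (memL L) [3, 4, 3, 1, 4, 3, 4, 3]) = true := by decide +kernel

theorem rot4_13 : T.rot 4 [3, 1, 4, 3, 4, 3, 4, 3] (sel (ones 2080) ip4 13) = true := by decide +kernel

theorem rot4_13r : band (Rule.ok (2 * 6) EX RL ⟨4 :: [3, 1, 4, 3, 4, 3, 4, 3], [4, 6], 15, false⟩) (lall (memL L) [3, 1, 4, 3, 4, 3, 4, 3]) = true := by decide +kernel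

theorem rot4_14 : T.rot 4 [3, 4, 3, 2, 4, 3, 4, 3, 2, 4, 3, 4, 3, 2, 4, 3, 4, 3, 2, 4, 3, 4, 3, 2, 5, 4, 3, 4, 3, 2, 4, 3, 4, 3, 2, 4, 3, 4, 3, 2, 4, 3, 4, 3, 2, 4, 3, 4, 3, 2, 5, 4, 3, 4, 3, 2, 4, 3, 4, 3, 2, 4, 3, 4, 3, 2, 4, 3, 4, 3, 2, 4, 3, 4, 3, 2, 5] (sel (ones 2080) ip4 14) = true := by decide +kernel

theorem rot4_14r : band (Rule.ok (2 * 6) EX RL ⟨4 :: [3, 4, 3, 2, 4, 3, 4, 3, 2, 4, 3, 4, 3, 2, 4, 3, 4, 3, 2, 4, 3, 4, 3, 2, 5, 4, 3, 4, 3, 2, 4, 3, 4, 3, 2, 4, 3, 4, 3, 2, 4, 3, 4, 3, 2, 4, 3, 4, 3, 2, 5, 4, 3, 4, 3, 2, 4, 3, 4, 3, 2, 4, 3, 4, 3, 2, 4, 3, 4, 3, 2, 4, 3, 4, 3, 2, 5], [8], 17, true⟩) (lall (memL L) [3, 4, 3, 2, 4, 3, 4, 3, 2, 4, 3, 4, 3, 2, 4, 3, 4, 3, 2, 4, 3, 4, 3, 2, 5, 4, 3, 4, 3, 2, 4, 3, 4, 3, 2, 4, 3, 4, 3, 2, 4, 3,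 4, 3, 2, 4, 3, 4, 3, 2, 5, 4, 3, 4, 3, 2, 4, 3, 4, 3, 2, 4, 3, 4, 3, 2, 4, 3, 4, 3, 2, 4, 3, 4, 3, 2, 5]) = true := by decide +kernel

theorem rot4_15 : T.rot 4 [3, 2, 4, 3, 4, 3, 2, 4, 3, 4, 3, 2, 4, 3, 4, 3, 2, 4, 3, 4, 3, 2, 5, 4, 3, 4, 3, 2, 4, 3, 4, 3, 2, 4, 3, 4, 3, 2, 4, 3, 4, 3, 2, 4, 3, 4, 3, 2, 5, 4, 3, 4, 3, 2, 4, 3, 4, 3, 2, 4, 3, 4, 3, 2, 4, 3, 4, 3, 2, 4, 3, 4, 3, 2, 5, 4, 3] (sel (ones 2080) ip4 15) = true := by decide +kernel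

theorem rot4_15r : band (Rule.ok (2 * 6) EX RL ⟨4 :: [3, 2, 4, 3, 4, 3, 2, 4, 3, 4, 3, 2, 4, 3, 4, 3, 2, 4, 3, 4, 3, 2, 5, 4, 3, 4, 3, 2, 4, 3, 4, 3, 2, 4, 3, 4, 3, 2, 4, 3, 4, 3, 2, 4, 3, 4, 3, 2, 5, 4, 3, 4, 3, 2, 4, 3, 4, 3, 2, 4, 3, 4, 3, 2, 4, 3, 4, 3, 2, 4, 3, 4, 3, 2, 5, 4, 3], [8, 6, 4], 17, true⟩) (lall (memL L) [3, 2, 4, 3, 4, 3, 2, 4, 3, 4, 3, 2, 4, 3, 4, 3, 2, 4, 3, 4, 3, 2, 5, 4, 3, 4, 3, 2, 4, 3, 4, 3, 2, 4, 3, 4, 3, 2, 4, 3, 4, 3, 2, 4, 3, 4, 3, 2, 5, 4, 3, 4, 3, 2, 4, 3, 4, 3, 2, 4, 3, 4, 3, 2, 4, 3, 4, 3, 2, 4, 3, 4, 3, 2, 5, 4, 3]) = true := by decide +kernel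

theorem rot4_16 : T.rot 4 [3, 4, 3, 2, 4, 3, 4, 3, 2, 4, 3, 4, 3, 2, 4, 3, 4, 3, 2, 5, 4, 3, 4, 3, 2, 4, 3, 4, 3, 2, 4, 3, 4, 3, 2, 4, 3, 4, 3, 2, 4, 3, 4, 3, 2, 5, 4, 3, 4, 3, 2, 4, 3, 4, 3, 2, 4, 3, 4, 3, 2, 4, 3, 4, 3, 2, 4, 3, 4, 3, 2, 5, 4, 3, 4, 3, 2] (sel (ones 2080) ip4 16) = true := by decide +kernel

theorem rot4_16r : band (Rule.ok (2 * 6) EX RL ⟨4 :: [3, 4, 3, 2, 4, 3, 4, 3, 2, 4, 3, 4, 3, 2, 4, 3, 4, 3, 2, 5, 4, 3, 4, 3, 2, 4, 3, 4, 3, 2, 4, 3, 4, 3, 2, 4, 3, 4, 3, 2, 4, 3, 4, 3, 2, 5, 4, 3, 4, 3, 2, 4, 3, 4, 3, 2, 4, 3, 4, 3, 2, 4, 3, 4, 3, 2, 4, 3, 4, 3, 2, 5, 4, 3, 4, 3, 2], [8, 6, 4, 6, 4, 2], 17, true⟩) (lall (memL L) [3, 4, 3, 2, 4, 3, 4, 3, 2, 4, 3, 4, 3, 2, 4, 3, 4, 3, 2, 5, 4, 3, 4, 3, 2, 4, 3, 4, 3, 2, 4, 3, 4, 3, 2, 4, 3,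 4, 3, 2, 4, 3, 4, 3, 2, 5, 4, 3, 4, 3, 2, 4, 3, 4, 3, 2, 4, 3, 4, 3, 2, 4, 3, 4, 3, 2, 4, 3, 4, 3, 2, 5, 4, 3, 4, 3, 2]) = true := by decide +kernel

theorem rot4_17 : T.rot 4 [3, 2, 4, 3, 4, 3, 2, 4, 3, 4, 3, 2, 4, 3, 4, 3, 2, 5, 4, 3, 4, 3, 2, 4, 3, 4, 3, 2, 4, 3, 4, 3, 2, 4, 3, 4, 3, 2, 4, 3, 4, 3, 2, 5, 4, 3, 4, 3, 2, 4, 3, 4, 3, 2, 4, 3, 4, 3, 2, 4, 3, 4, 3, 2, 4, 3, 4, 3, 2, 5, 4, 3, 4, 3, 2, 4, 3] (sel (ones 2080) ip4 17) = true := by decide +kernel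

theorem rot4_17r : band (Rule.ok (2 * 6) EX RL ⟨4 :: [3, 2, 4, 3, 4, 3, 2, 4, 3, 4, 3, 2, 4, 3, 4, 3, 2, 5, 4, 3, 4, 3, 2, 4, 3, 4, 3, 2, 4, 3, 4, 3, 2, 4, 3, 4, 3, 2, 4, 3, 4, 3, 2, 5, 4, 3, 4, 3, 2, 4, 3, 4, 3, 2, 4, 3, 4, 3, 2, 4, 3, 4, 3, 2, 4, 3, 4, 3, 2, 5, 4, 3, 4, 3, 2, 4, 3], [8, 6, 4, 6, 4, 2, 6, 4], 17, true⟩) (lall (memL L) [3, 2, 4, 3, 4, 3, 2, 4, 3, 4, 3, 2, 4, 3, 4, 3, 2, 5, 4, 3, 4, 3, 2, 4, 3, 4, 3, 2, 4, 3, 4, 3, 2, 4, 3, 4, 3, 2, 4, 3, 4, 3, 2, 5, 4, 3, 4, 3, 2, 4, 3, 4, 3, 2, 4, 3, 4, 3, 2, 4, 3, 4, 3, 2, 4, 3, 4, 3, 2, 5, 4, 3, 4, 3, 2, 4, 3]) = true := by decide +kernel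

theorem rot4_18 : T.rot 4 [3, 4, 3, 2, 4, 3, 4, 3, 2, 4, 3, 4, 3, 2, 5, 4, 3, 4, 3, 2, 4, 3, 4, 3, 2, 4, 3, 4, 3, 2, 4, 3, 4, 3, 2, 4, 3, 4, 3, 2, 5, 4, 3, 4, 3, 2, 4, 3, 4, 3, 2, 4, 3, 4, 3, 2, 4, 3, 4, 3, 2, 4, 3, 4, 3, 2, 5, 4, 3, 4, 3, 2, 4, 3, 4, 3, 2] (sel (ones 2080) ip4 18) = true := by decide +kernel

theorem rot4_18r : band (Rule.ok (2 * 6) EX RL ⟨4 :: [3, 4, 3, 2, 4, 3, 4, 3, 2, 4, 3, 4, 3, 2, 5, 4, 3, 4, 3, 2, 4, 3, 4, 3, 2, 4, 3, 4, 3, 2, 4, 3, 4, 3, 2, 4, 3, 4, 3, 2, 5, 4, 3, 4, 3, 2, 4, 3, 4, 3, 2, 4, 3, 4, 3, 2, 4, 3, 4, 3, 2, 4, 3, 4, 3, 2, 5, 4, 3, 4, 3, 2, 4, 3, 4, 3, 2], [8, 6, 4, 6, 4, 2, 6, 4, 6, 4, 2], 17, true⟩) (lall (memL L) [3, 4, 3, 2, 4, 3, 4, 3, 2, 4, 3, 4, 3, 2, 5, 4, 3, 4, 3, 2, 4, 3, 4, 3, 2, 4, 3, 4, 3, 2, 4, 3,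 4, 3, 2, 4, 3, 4, 3, 2, 5, 4, 3, 4, 3, 2, 4, 3, 4, 3, 2, 4, 3, 4, 3, 2, 4, 3, 4, 3, 2, 4, 3, 4, 3, 2, 5, 4, 3, 4, 3, 2, 4, 3, 4, 3, 2]) = true := by decide +kernel

theorem rot4_19 : T.rot 4 [3, 2, 4, 3, 4, 3, 2, 4, 3, 4, 3, 2, 5, 4, 3, 4, 3, 2, 4, 3, 4, 3, 2, 4, 3, 4, 3, 2, 4, 3, 4, 3, 2, 4, 3, 4, 3, 2, 5, 4, 3, 4, 3, 2, 4, 3, 4, 3, 2, 4, 3, 4, 3, 2, 4, 3, 4, 3, 2, 4, 3, 4, 3, 2, 5, 4, 3, 4, 3, 2, 4, 3, 4, 3, 2, 4, 3] (sel (ones 2080) ip4 19) = true := by decide +kernel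

theorem rot4_19r : band (Rule.ok (2 * 6) EX RL ⟨4 :: [3, 2, 4, 3, 4, 3, 2, 4, 3, 4, 3, 2, 5, 4, 3, 4, 3, 2, 4, 3, 4, 3, 2, 4, 3, 4, 3, 2, 4, 3, 4, 3, 2, 4, 3, 4, 3, 2, 5, 4, 3, 4, 3, 2, 4, 3, 4, 3, 2, 4, 3, 4, 3, 2, 4, 3, 4, 3, 2, 4, 3, 4, 3, 2, 5, 4, 3, 4, 3, 2, 4, 3, 4, 3, 2, 4, 3], [2, 4, 6, 4, 6, 2, 4, 6, 4, 6, 2, 4, 6], 17, true⟩) (lall (memL L) [3, 2, 4, 3, 4, 3, 2, 4, 3, 4, 3, 2, 5, 4, 3, 4, 3, 2, 4, 3, 4, 3, 2, 4, 3, 4, 3, 2, 4, 3, 4, 3, 2, 4, 3, 4, 3, 2, 5, 4, 3, 4, 3, 2, 4, 3, 4, 3, 2, 4, 3, 4, 3, 2, 4, 3, 4, 3, 2, 4, 3, 4, 3, 2, 5, 4, 3, 4, 3, 2, 4, 3, 4, 3, 2, 4, 3]) = true := by decide +kernel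

theorem rot4_20 : T.rot 4 [3, 4, 3, 2, 4, 3, 4, 3, 2, 5, 4, 3, 4, 3, 2, 4, 3, 4, 3, 2, 4, 3, 4, 3, 2, 4, 3, 4, 3, 2, 4, 3, 4, 3, 2, 5, 4, 3, 4, 3, 2, 4, 3, 4, 3, 2, 4, 3, 4, 3, 2, 4, 3, 4, 3, 2, 4, 3, 4, 3, 2, 5, 4, 3, 4, 3, 2, 4, 3, 4, 3, 2, 4, 3, 4, 3, 2] (sel (ones 2080) ip4 20) = true := by decide +kernel

theorem rot4_20r : band (Rule.ok (2 * 6) EX RL ⟨4 :: [3, 4, 3, 2, 4, 3, 4, 3, 2, 5, 4, 3, 4, 3, 2, 4, 3, 4, 3, 2, 4, 3, 4, 3, 2, 4, 3, 4, 3, 2, 4, 3, 4, 3, 2, 5, 4, 3, 4, 3, 2, 4, 3, 4, 3, 2, 4, 3, 4, 3, 2, 4, 3, 4, 3, 2, 4, 3, 4, 3, 2, 5, 4, 3, 4, 3, 2, 4, 3, 4, 3, 2, 4, 3, 4, 3, 2], [2, 4, 6, 4, 6, 2, 4, 6, 4, 6], 17, true⟩) (lall (memL L) [3, 4, 3, 2, 4, 3, 4, 3, 2, 5, 4, 3, 4, 3, 2, 4, 3, 4, 3, 2, 4, 3, 4, 3, 2, 4, 3, 4, 3, 2, 4, 3, 4,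 3, 2, 5, 4, 3, 4, 3, 2, 4, 3, 4, 3, 2, 4, 3, 4, 3, 2, 4, 3, 4, 3, 2, 4, 3, 4, 3, 2, 5, 4, 3, 4, 3, 2, 4, 3, 4, 3, 2, 4, 3, 4, 3, 2]) = true := by decide +kernel

theorem rot4_21 : T.rot 4 [3, 2, 4, 3, 4, 3, 2, 5, 4, 3, 4, 3, 2, 4, 3, 4, 3, 2, 4, 3, 4, 3, 2, 4, 3, 4, 3, 2, 4, 3, 4, 3, 2, 5, 4, 3, 4, 3, 2, 4, 3, 4, 3, 2, 4, 3, 4, 3, 2, 4, 3, 4, 3, 2, 4, 3, 4, 3, 2, 5, 4, 3, 4, 3, 2, 4, 3, 4, 3, 2, 4, 3, 4, 3, 2, 4, 3] (sel (ones 2080) ip4 21) = true := by decide +kernel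

theorem rot4_21r : band (Rule.ok (2 * 6) EX RL ⟨4 :: [3, 2, 4, 3, 4, 3, 2, 5, 4, 3, 4, 3, 2, 4, 3, 4, 3, 2, 4, 3, 4, 3, 2, 4, 3, 4, 3, 2, 4, 3, 4, 3, 2, 5, 4, 3, 4, 3, 2, 4, 3, 4, 3, 2, 4, 3, 4, 3, 2, 4, 3, 4, 3, 2, 4, 3, 4, 3, 2, 5, 4, 3, 4, 3, 2, 4, 3, 4, 3, 2, 4, 3, 4, 3, 2, 4, 3], [2, 4, 6, 4, 6, 2, 4, 6], 17, true⟩) (lall (memL L) [3, 2, 4, 3, 4, 3, 2, 5, 4, 3, 4, 3, 2, 4, 3, 4, 3, 2, 4, 3, 4, 3, 2, 4, 3, 4, 3, 2, 4, 3, 4, 3, 2, 5, 4, 3, 4, 3, 2, 4, 3, 4, 3, 2, 4, 3, 4, 3, 2, 4, 3, 4, 3, 2, 4, 3, 4, 3, 2, 5, 4, 3, 4, 3, 2, 4, 3, 4, 3, 2, 4, 3, 4, 3, 2, 4, 3]) = true := by decide +kernel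

theorem rot4_22 : T.rot 4 [3, 4, 3, 2, 5, 4, 3, 4, 3, 2, 4, 3, 4, 3, 2, 4, 3, 4, 3, 2, 4, 3, 4, 3, 2, 4, 3, 4, 3, 2, 5, 4, 3, 4, 3, 2, 4, 3, 4, 3, 2, 4, 3, 4, 3, 2, 4, 3, 4, 3, 2, 4, 3, 4, 3, 2, 5, 4, 3, 4, 3, 2, 4, 3, 4, 3, 2, 4, 3, 4, 3, 2, 4, 3, 4, 3, 2] (sel (ones 2080) ip4 22) = true := by decide +kernel

theorem rot4_22r : band (Rule.ok (2 * 6) EX RL ⟨4 :: [3, 4, 3, 2, 5, 4, 3, 4, 3, 2, 4, 3, 4, 3, 2, 4, 3, 4, 3, 2, 4, 3, 4, 3, 2, 4, 3, 4, 3, 2, 5, 4, 3, 4, 3, 2, 4, 3, 4, 3, 2, 4, 3, 4, 3, 2, 4, 3, 4, 3, 2, 4, 3, 4, 3, 2, 5, 4, 3, 4, 3, 2, 4, 3, 4, 3, 2, 4, 3, 4, 3, 2, 4, 3, 4, 3, 2], [2, 4, 6, 4, 6], 17, true⟩) (lall (memL L) [3, 4, 3, 2, 5, 4, 3, 4, 3, 2, 4, 3, 4, 3, 2, 4, 3, 4, 3, 2, 4, 3, 4, 3, 2, 4, 3, 4, 3, 2, 5, 4, 3, 4, 3, 2, 4, 3,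 4, 3, 2, 4, 3, 4, 3, 2, 4, 3, 4, 3, 2, 4, 3, 4, 3, 2, 5, 4, 3, 4, 3, 2, 4, 3, 4, 3, 2, 4, 3, 4, 3, 2, 4, 3, 4, 3, 2]) = true := by decide +kernel

theorem rot4_23 : T.rot 4 [3, 2, 5, 4, 3, 4, 3, 2, 4, 3, 4, 3, 2, 4, 3, 4, 3, 2, 4, 3, 4, 3, 2, 4, 3, 4, 3, 2, 5, 4, 3, 4, 3, 2, 4, 3, 4, 3, 2, 4, 3, 4, 3, 2, 4, 3, 4, 3, 2, 4, 3, 4, 3, 2, 5, 4, 3, 4, 3, 2, 4, 3, 4, 3, 2, 4, 3, 4, 3, 2, 4, 3, 4, 3, 2, 4, 3] (sel (ones 2080) ip4 23) = true := by decide +kernel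

theorem rot4_23r : band (Rule.ok (2 * 6) EX RL ⟨4 :: [3, 2, 5, 4, 3, 4, 3, 2, 4, 3, 4, 3, 2, 4, 3, 4, 3, 2, 4, 3, 4, 3, 2, 4, 3, 4, 3, 2, 5, 4, 3, 4, 3, 2, 4, 3, 4, 3, 2, 4, 3, 4, 3, 2, 4, 3, 4, 3, 2, 4, 3, 4, 3, 2, 5, 4, 3, 4, 3, 2, 4, 3, 4, 3, 2, 4, 3, 4, 3, 2, 4, 3, 4, 3, 2, 4, 3], [2, 4, 6], 17, true⟩) (lall (memL L) [3, 2, 5, 4, 3, 4, 3, 2, 4, 3, 4, 3, 2, 4, 3, 4, 3, 2, 4, 3, 4, 3, 2, 4, 3, 4, 3, 2, 5, 4, 3, 4, 3, 2, 4, 3, 4, 3, 2, 4, 3, 4, 3, 2, 4, 3, 4, 3, 2, 4, 3, 4, 3, 2, 5, 4, 3, 4, 3, 2, 4, 3, 4, 3, 2, 4, 3, 4, 3, 2, 4, 3, 4, 3, 2, 4, 3]) = true := by decide +kernel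

theorem rot4_24 : T.rot 4 [3, 4, 2, 3, 4, 3, 4, 2, 3, 4, 3, 4, 2, 3, 4, 3, 4, 2, 3, 4, 3, 4, 5, 2, 3, 4, 3, 4, 2, 3, 4, 3, 4, 2, 3, 4, 3, 4, 2, 3, 4, 3, 4, 2, 3, 4, 3, 4, 5, 2, 3, 4, 3, 4, 2, 3, 4, 3, 4, 2, 3, 4, 3, 4, 2, 3, 4, 3, 4, 2, 3, 4, 3, 4, 5, 2, 3] (sel (ones 2080) ip4 24) = true := by decide +kernel

theorem rot4_24r : band (Rule.ok (2 * 6) EX RL ⟨4 :: [3, 4, 2, 3, 4, 3, 4, 2, 3, 4, 3, 4, 2, 3, 4, 3, 4, 2, 3, 4, 3, 4, 5, 2, 3, 4, 3, 4, 2, 3, 4, 3, 4, 2, 3, 4, 3, 4, 2, 3, 4, 3, 4, 2, 3, 4, 3, 4, 5, 2, 3, 4, 3, 4, 2, 3, 4, 3, 4, 2, 3, 4, 3, 4, 2, 3, 4, 3, 4, 2, 3, 4, 3, 4, 5, 2, 3], [2, 4], 17, false⟩) (lall (memL L) [3, 4, 2, 3, 4, 3, 4, 2, 3, 4, 3, 4, 2, 3, 4, 3, 4, 2, 3, 4, 3, 4, 5, 2, 3, 4, 3, 4, 2, 3, 4, 3, 4, 2, 3, 4, 3, 4, 2, 3,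 4, 3, 4, 2, 3, 4, 3, 4, 5, 2, 3, 4, 3, 4, 2, 3, 4, 3, 4, 2, 3, 4, 3, 4, 2, 3, 4, 3, 4, 2, 3, 4, 3, 4, 5, 2, 3]) = true := by decide +kernel

theorem rot4_25 : T.rot 4 [2, 3, 4, 3, 4, 2, 3, 4, 3, 4, 2, 3, 4, 3, 4, 2, 3, 4, 3, 4, 5, 2, 3, 4, 3, 4, 2, 3, 4, 3, 4, 2, 3, 4, 3, 4, 2, 3, 4, 3, 4, 2, 3, 4, 3, 4, 5, 2, 3, 4, 3, 4, 2, 3, 4, 3, 4, 2, 3, 4, 3, 4, 2, 3, 4, 3, 4, 2, 3, 4, 3, 4, 5, 2, 3, 4, 3] (sel (ones 2080) ip4 25) = true := by decide +kernel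

theorem rot4_25r : band (Rule.ok (2 * 6) EX RL ⟨4 :: [2, 3, 4, 3, 4, 2, 3, 4, 3, 4, 2, 3, 4, 3, 4, 2, 3, 4, 3, 4, 5, 2, 3, 4, 3, 4, 2, 3, 4, 3, 4, 2, 3, 4, 3, 4, 2, 3, 4, 3, 4, 2, 3, 4, 3, 4, 5, 2, 3, 4, 3, 4, 2, 3, 4, 3, 4, 2, 3, 4, 3, 4, 2, 3, 4, 3, 4, 2, 3, 4, 3, 4, 5, 2, 3, 4, 3], [2, 4, 6, 4], 17, false⟩) (lall (memL L) [2, 3, 4, 3, 4, 2, 3, 4, 3, 4, 2, 3, 4, 3, 4, 2, 3, 4, 3, 4, 5, 2, 3, 4, 3, 4, 2, 3, 4, 3, 4, 2, 3, 4, 3, 4, 2, 3, 4, 3, 4, 2, 3, 4, 3, 4, 5, 2, 3, 4, 3, 4, 2, 3, 4, 3, 4, 2, 3, 4, 3, 4, 2, 3, 4, 3, 4, 2, 3, 4, 3, 4, 5, 2, 3, 4, 3]) = true := by decide +kernel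

theorem rot4_26 : T.rot 4 [3, 4, 2, 3, 4, 3, 4, 2, 3, 4, 3, 4, 2, 3, 4, 3, 4, 5, 2, 3, 4, 3, 4, 2, 3, 4, 3, 4, 2, 3, 4, 3, 4, 2, 3, 4, 3, 4, 2, 3, 4, 3, 4, 5, 2, 3, 4, 3, 4, 2, 3, 4, 3, 4, 2, 3, 4, 3, 4, 2, 3, 4, 3, 4, 2, 3, 4, 3, 4, 5, 2, 3, 4, 3, 4, 2, 3] (sel (ones 2080) ip4 26) = true := by decide +kernel

theorem rot4_26r : band (Rule.ok (2 * 6) EX RL ⟨4 :: [3, 4, 2, 3, 4, 3, 4, 2, 3, 4, 3, 4, 2, 3, 4, 3, 4, 5, 2, 3, 4, 3, 4, 2, 3, 4, 3, 4, 2, 3, 4, 3, 4, 2, 3, 4, 3, 4, 2, 3, 4, 3, 4, 5, 2, 3, 4, 3, 4, 2, 3, 4, 3, 4, 2, 3, 4, 3, 4, 2, 3, 4, 3, 4, 2, 3, 4, 3, 4, 5, 2, 3, 4, 3, 4, 2, 3], [2, 4, 6, 4, 6, 2, 4], 17, false⟩) (lall (memL L) [3, 4, 2, 3, 4, 3, 4, 2, 3, 4, 3, 4, 2, 3, 4, 3, 4, 5, 2, 3, 4, 3, 4, 2, 3, 4, 3, 4, 2, 3, 4, 3, 4, 2, 3,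 4, 3, 4, 2, 3, 4, 3, 4, 5, 2, 3, 4, 3, 4, 2, 3, 4, 3, 4, 2, 3, 4, 3, 4, 2, 3, 4, 3, 4, 2, 3, 4, 3, 4, 5, 2, 3, 4, 3, 4, 2, 3]) = true := by decide +kernel

theorem rot4_27 : T.rot 4 [2, 3, 4, 3, 4, 2, 3, 4, 3, 4, 2, 3, 4, 3, 4, 5, 2, 3, 4, 3, 4, 2, 3, 4, 3, 4, 2, 3, 4, 3, 4, 2, 3, 4, 3, 4, 2, 3, 4, 3, 4, 5, 2, 3, 4, 3, 4, 2, 3, 4, 3, 4, 2, 3, 4, 3, 4, 2, 3, 4, 3, 4, 2, 3, 4, 3, 4, 5, 2, 3, 4, 3, 4, 2, 3, 4, 3] (sel (ones 2080) ip4 27) = true := by decide +kernel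

theorem rot4_27r : band (Rule.ok (2 * 6) EX RL ⟨4 :: [2, 3, 4, 3, 4, 2, 3, 4, 3, 4, 2, 3, 4, 3, 4, 5, 2, 3, 4, 3, 4, 2, 3, 4, 3, 4, 2, 3, 4, 3, 4, 2, 3, 4, 3, 4, 2, 3, 4, 3, 4, 5, 2, 3, 4, 3, 4, 2, 3, 4, 3, 4, 2, 3, 4, 3, 4, 2, 3, 4, 3, 4, 2, 3, 4, 3, 4, 5, 2, 3, 4, 3, 4, 2, 3, 4, 3], [2, 4, 6, 4, 6, 2, 4, 6, 4], 17, false⟩) (lall (memL L) [2, 3, 4, 3, 4, 2, 3, 4, 3, 4, 2, 3, 4, 3, 4, 5, 2, 3, 4, 3, 4, 2, 3, 4, 3, 4, 2, 3, 4, 3, 4, 2, 3, 4, 3, 4, 2, 3, 4, 3, 4, 5, 2, 3, 4, 3, 4, 2, 3, 4, 3, 4, 2, 3, 4, 3, 4, 2, 3, 4, 3, 4, 2, 3, 4, 3, 4, 5, 2, 3, 4, 3, 4, 2, 3, 4, 3]) = true := by decide +kernel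

theorem rot4_28 : T.rot 4 [3, 4, 2, 3, 4, 3, 4, 2, 3, 4, 3, 4, 5, 2, 3, 4, 3, 4, 2, 3, 4, 3, 4, 2, 3, 4, 3, 4, 2, 3, 4, 3, 4, 2, 3, 4, 3, 4, 5, 2, 3, 4, 3, 4, 2, 3, 4, 3, 4, 2, 3, 4, 3, 4, 2, 3, 4, 3, 4, 2, 3, 4, 3, 4, 5, 2, 3, 4, 3, 4, 2, 3, 4, 3, 4, 2, 3] (sel (ones 2080) ip4 28) = true := by decide +kernel

theorem rot4_28r : band (Rule.ok (2 * 6) EX RL ⟨4 :: [3, 4, 2, 3, 4, 3, 4, 2, 3, 4, 3, 4, 5, 2, 3, 4, 3, 4, 2, 3, 4, 3, 4, 2, 3, 4, 3, 4, 2, 3, 4, 3, 4, 2, 3, 4, 3, 4, 5, 2, 3, 4, 3, 4, 2, 3, 4, 3, 4, 2, 3, 4, 3, 4, 2, 3, 4, 3, 4, 2, 3, 4, 3, 4, 5, 2, 3, 4, 3, 4, 2, 3, 4, 3, 4, 2, 3], [2, 4, 6, 4, 6, 2, 4, 6, 4, 6, 2, 4], 17, false⟩) (lall (memL L) [3, 4, 2, 3, 4, 3, 4, 2, 3, 4, 3, 4, 5, 2, 3, 4, 3, 4, 2, 3, 4, 3, 4, 2, 3, 4, 3, 4, 2, 3,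 4, 3, 4, 2, 3, 4, 3, 4, 5, 2, 3, 4, 3, 4, 2, 3, 4, 3, 4, 2, 3, 4, 3, 4, 2, 3, 4, 3, 4, 2, 3, 4, 3, 4, 5, 2, 3, 4, 3, 4, 2, 3, 4, 3, 4, 2, 3]) = true := by decide +kernel

theorem rot4_29 : T.rot 4 [2, 3, 4, 3, 4, 2, 3, 4, 3, 4, 5, 2, 3, 4, 3, 4, 2, 3, 4, 3, 4, 2, 3, 4, 3, 4, 2, 3, 4, 3, 4, 2, 3, 4, 3, 4, 5, 2, 3, 4, 3, 4, 2, 3, 4, 3, 4, 2, 3, 4, 3, 4, 2, 3, 4, 3, 4, 2, 3, 4, 3, 4, 5, 2, 3, 4, 3, 4, 2, 3, 4, 3, 4, 2, 3, 4, 3] (sel (ones 2080) ip4 29) = true := by decide +kernel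

theorem rot4_29r : band (Rule.ok (2 * 6) EX RL ⟨4 :: [2, 3, 4, 3, 4, 2, 3, 4, 3, 4, 5, 2, 3, 4, 3, 4, 2, 3, 4, 3, 4, 2, 3, 4, 3, 4, 2, 3, 4, 3, 4, 2, 3, 4, 3, 4, 5, 2, 3, 4, 3, 4, 2, 3, 4, 3, 4, 2, 3, 4, 3, 4, 2, 3, 4, 3, 4, 2, 3, 4, 3, 4, 5, 2, 3, 4, 3, 4, 2, 3, 4, 3, 4, 2, 3, 4, 3], [8, 6, 4, 6, 4, 2, 6, 4, 6, 4, 2, 6], 17, false⟩) (lall (memL L) [2, 3, 4, 3, 4, 2, 3, 4, 3, 4, 5, 2, 3, 4, 3, 4, 2, 3, 4, 3, 4, 2, 3, 4, 3, 4, 2, 3, 4, 3, 4, 2, 3, 4, 3, 4, 5, 2, 3, 4, 3, 4, 2, 3, 4, 3, 4, 2, 3, 4, 3, 4, 2, 3, 4, 3, 4, 2, 3, 4, 3, 4, 5, 2, 3, 4, 3, 4, 2, 3, 4, 3, 4, 2, 3, 4, 3]) = true := by decide +kernel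

theorem rot4_30 : T.rot 4 [3, 4, 2, 3, 4, 3, 4, 5, 2, 3, 4, 3, 4, 2, 3, 4, 3, 4, 2, 3, 4, 3, 4, 2, 3, 4, 3, 4, 2, 3, 4, 3, 4, 5, 2, 3, 4, 3, 4, 2, 3, 4, 3, 4, 2, 3, 4, 3, 4, 2, 3, 4, 3, 4, 2, 3, 4, 3, 4, 5, 2, 3, 4, 3, 4, 2, 3, 4, 3, 4, 2, 3, 4, 3, 4, 2, 3] (sel (ones 2080) ip4 30) = true := by decide +kernel

theorem rot4_30r : band (Rule.ok (2 * 6) EX RL ⟨4 :: [3, 4, 2, 3, 4, 3, 4, 5, 2, 3, 4, 3, 4, 2, 3, 4, 3, 4, 2, 3, 4, 3, 4, 2, 3, 4, 3, 4, 2, 3, 4, 3, 4, 5, 2, 3, 4, 3, 4, 2, 3, 4, 3, 4, 2, 3, 4, 3, 4, 2, 3, 4, 3, 4, 2, 3, 4, 3, 4, 5, 2, 3, 4, 3, 4, 2, 3, 4, 3, 4, 2, 3, 4, 3, 4, 2, 3], [8, 6, 4, 6, 4, 2, 6, 4, 6], 17, false⟩) (lall (memL L) [3, 4, 2, 3, 4, 3, 4, 5, 2, 3, 4, 3, 4, 2, 3, 4, 3, 4, 2, 3, 4, 3, 4, 2, 3, 4, 3, 4, 2, 3, 4, 3, 4,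 5, 2, 3, 4, 3, 4, 2, 3, 4, 3, 4, 2, 3, 4, 3, 4, 2, 3, 4, 3, 4, 2, 3, 4, 3, 4, 5, 2, 3, 4, 3, 4, 2, 3, 4, 3, 4, 2, 3, 4, 3, 4, 2, 3]) = true := by decide +kernel

theorem rot4_31 : T.rot 4 [2, 3, 4, 3, 4, 5, 2, 3, 4, 3, 4, 2, 3, 4, 3, 4, 2, 3, 4, 3, 4, 2, 3, 4, 3, 4, 2, 3, 4, 3, 4, 5, 2, 3, 4, 3, 4, 2, 3, 4, 3, 4, 2, 3, 4, 3, 4, 2, 3, 4, 3, 4, 2, 3, 4, 3, 4, 5, 2, 3, 4, 3, 4, 2, 3, 4, 3, 4, 2, 3, 4, 3, 4, 2, 3, 4, 3] (sel (ones 2080) ip4 31) = true := by decide +kernel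

theorem rot4_31r : band (Rule.ok (2 * 6) EX RL ⟨4 :: [2, 3, 4, 3, 4, 5, 2, 3, 4, 3, 4, 2, 3, 4, 3, 4, 2, 3, 4, 3, 4, 2, 3, 4, 3, 4, 2, 3, 4, 3, 4, 5, 2, 3, 4, 3, 4, 2, 3, 4, 3, 4, 2, 3, 4, 3, 4, 2, 3, 4, 3, 4, 2, 3, 4, 3, 4, 5, 2, 3, 4, 3, 4, 2, 3, 4, 3, 4, 2, 3, 4, 3, 4, 2, 3, 4, 3], [8, 6, 4, 6, 4, 2, 6], 17, false⟩) (lall (memL L) [2, 3, 4, 3, 4, 5, 2, 3, 4, 3, 4, 2, 3, 4, 3, 4, 2, 3, 4, 3, 4, 2, 3, 4, 3, 4, 2, 3, 4, 3, 4, 5, 2, 3, 4, 3, 4, 2, 3, 4, 3, 4, 2, 3, 4, 3, 4, 2, 3, 4, 3, 4, 2, 3, 4, 3, 4, 5, 2, 3, 4, 3, 4, 2, 3, 4, 3, 4, 2, 3, 4, 3, 4, 2, 3, 4, 3]) = true := by decide +kernel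

theorem rot4_32 : T.rot 4 [3, 4, 5, 2, 3, 4, 3, 4, 2, 3, 4, 3, 4, 2, 3, 4, 3, 4, 2, 3, 4, 3, 4, 2, 3, 4, 3, 4, 5, 2, 3, 4, 3, 4, 2, 3, 4, 3, 4, 2, 3, 4, 3, 4, 2, 3, 4, 3, 4, 2, 3, 4, 3, 4, 5, 2, 3, 4, 3, 4, 2, 3, 4, 3, 4, 2, 3, 4, 3, 4, 2, 3, 4, 3, 4, 2, 3] (sel (ones 2080) ip4 32) = true := by decide +kernel

theorem rot4_32r : band (Rule.ok (2 * 6) EX RL ⟨4 :: [3, 4, 5, 2, 3, 4, 3, 4, 2, 3, 4, 3, 4, 2, 3, 4, 3, 4, 2, 3, 4, 3, 4, 2, 3, 4, 3, 4, 5, 2, 3, 4, 3, 4, 2, 3, 4, 3, 4, 2, 3, 4, 3, 4, 2, 3, 4, 3, 4, 2, 3, 4, 3, 4, 5, 2, 3, 4, 3, 4, 2, 3, 4, 3, 4, 2, 3, 4, 3, 4, 2, 3, 4, 3, 4, 2, 3], [8, 6, 4, 6], 17, false⟩) (lall (memL L) [3, 4, 5, 2, 3, 4, 3, 4, 2, 3, 4, 3, 4, 2, 3, 4, 3, 4, 2, 3, 4, 3, 4, 2, 3, 4, 3, 4, 5, 2, 3, 4, 3, 4, 2, 3, 4, 3,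 4, 2, 3, 4, 3, 4, 2, 3, 4, 3, 4, 2, 3, 4, 3, 4, 5, 2, 3, 4, 3, 4, 2, 3, 4, 3, 4, 2, 3, 4, 3, 4, 2, 3, 4, 3, 4, 2, 3]) = true := by decide +kernel

theorem rot4_33 : T.rot 4 [5, 2, 3, 4, 3, 4, 2, 3, 4, 3, 4, 2, 3, 4, 3, 4, 2, 3, 4, 3, 4, 2, 3, 4, 3, 4, 5, 2, 3, 4, 3, 4, 2, 3, 4, 3, 4, 2, 3, 4, 3, 4, 2, 3, 4, 3, 4, 2, 3, 4, 3, 4, 5, 2, 3, 4, 3, 4, 2, 3, 4, 3, 4, 2, 3, 4, 3, 4, 2, 3, 4, 3, 4, 2, 3, 4, 3] (sel (ones 2080) ip4 33) = true := by decide +kernel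

theorem rot4_33r : band (Rule.ok (2 * 6) EX RL ⟨4 :: [5, 2, 3, 4, 3, 4, 2, 3, 4, 3, 4, 2, 3, 4, 3, 4, 2, 3, 4, 3, 4, 2, 3, 4, 3, 4, 5, 2, 3, 4, 3, 4, 2, 3, 4, 3, 4, 2, 3, 4, 3, 4, 2, 3, 4, 3, 4, 2, 3, 4, 3, 4, 5, 2, 3, 4, 3, 4, 2, 3, 4, 3, 4, 2, 3, 4, 3, 4, 2, 3, 4, 3, 4, 2, 3, 4, 3], [8, 6], 17, false⟩) (lall (memL L) [5, 2, 3, 4, 3, 4, 2, 3, 4, 3, 4, 2, 3, 4, 3, 4, 2, 3, 4, 3, 4, 2, 3, 4, 3, 4, 5, 2, 3, 4, 3, 4, 2, 3, 4, 3, 4, 2, 3, 4, 3, 4, 2, 3, 4, 3, 4, 2, 3, 4, 3, 4, 5, 2, 3, 4, 3, 4, 2, 3, 4, 3, 4, 2, 3, 4, 3, 4, 2, 3, 4, 3, 4, 2, 3, 4, 3]) = true := by decide +kernel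

theorem cov4 : T.cover 4 [(sel (ones 2080) ip4 1), (sel (ones 2080) ip4 2), (sel (ones 2080) ip4 3), (sel (ones 2080) ip4 4), (sel (ones 2080) ip4 5), (sel (ones 2080) ip4 6), (sel (ones 2080) ip4 7), (sel (ones 2080) ip4 8), (sel (ones 2080) ip4 9), (sel (ones 2080) ip4 10), (sel (ones 2080) ip4 11), (sel (ones 2080) ip4 12), (sel (ones 2080) ip4 13), (sel (ones 2080) ip4 14), (sel (ones 2080) ip4 15), (sel (ones 2080) ip4 16), (sel (ones 2080) ip4 17), (sel (ones 2080) ip4 18), (sel (ones 2080) ip4 19), (sel (ones 2080) ip4 20), (sel (ones 2080) ip4 21), (sel (ones 2080) ip4 22), (sel (ones 2080) ip4 23), (sel (ones 2080) ip4 24), (sel (ones 2080) ip4 25), (sel (ones 2080) ip4 26), (sel (ones 2080) ip4 27), (sel (ones 2080) ip4 28), (sel (ones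 2080) ip4 29), (sel (ones 2080) ip4 30), (sel (ones 2080) ip4 31), (sel (ones 2080) ip4 32), (sel (ones 2080) ip4 33), 1] = true := by decide +kernel

theorem tl4 : T.treeLt 12 4 = true := by decide +kernel

theorem rot5_1 : T.rot 5 [5] (sel (ones 2080) ip5 1) = true := by decide +kernel

theorem rot5_1r : band (Rule.ok (2 * 6) EX RL ⟨5 :: [5], [], 18, false⟩) (lall (memL L) [5]) = true := by decide +kernel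

theorem rot5_2 : T.rot 5 [1, 5, 1] (sel (ones 2080) ip5 2) = true := by decide +kernel

theorem rot5_2r : band (Rule.ok (2 * 6) EX RL ⟨5 :: [1, 5, 1], [], 3, true⟩) (lall (memL L) [1, 5, 1]) = true := by decide +kernel

theorem rot5_3 : T.rot 5 [2, 5, 2] (sel (ones 2080) ip5 3) = true := by decide +kernel

theorem rot5_3r : band (Rule.ok (2 * 6) EX RL ⟨5 :: [2, 5, 2], [], 7, true⟩) (lall (memL L) [2, 5, 2]) = true := by decide +kernel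

theorem rot5_4 : T.rot 5 [3, 5, 3] (sel (ones 2080) ip5 4) = true := by decide +kernel

theorem rot5_4r : band (Rule.ok (2 * 6) EX RL ⟨5 :: [3, 5, 3], [], 10, true⟩) (lall (memL L) [3, 5, 3]) = true := by decide +kernel

theorem rot5_5 : T.rot 5 [6, 5, 6] (sel (ones 2080) ip5 5) = true := by decide +kernel

theorem rot5_5r : band (Rule.ok (2 * 6) EX RL ⟨5 :: [6, 5, 6], [], 14, false⟩) (lall (memL L) [6, 5, 6]) = true := by decide +kernel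

theorem rot5_6 : T.rot 5 [4, 5, 4, 5, 4] (sel (ones 2080) ip5 6) = true := by decide +kernel

theorem rot5_6r : band (Rule.ok (2 * 6) EX RL ⟨5 :: [4, 5, 4, 5, 4], [], 12, true⟩) (lall (memL L) [4, 5, 4, 5, 4]) = true := by decide +kernel

theorem rot5_7 : T.rot 5 [4, 3, 4, 3, 2, 4, 3, 4, 3, 2, 4, 3, 4, 3, 2, 4, 3, 4, 3, 2, 4, 3, 4, 3, 2, 5, 4, 3, 4, 3, 2, 4, 3, 4, 3, 2, 4, 3, 4, 3, 2, 4, 3, 4, 3, 2, 4, 3, 4, 3, 2, 5, 4, 3, 4, 3, 2, 4, 3, 4, 3, 2, 4, 3, 4, 3, 2, 4, 3, 4, 3, 2, 4, 3, 4, 3, 2] (sel (ones 2080) ip5 7) = true := by decide +kernel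

theorem rot5_7r : band (Rule.ok (2 * 6) EX RL ⟨5 :: [4, 3, 4, 3, 2, 4, 3, 4, 3, 2, 4, 3, 4, 3, 2, 4, 3, 4, 3, 2, 4, 3, 4, 3, 2, 5, 4, 3, 4, 3, 2, 4, 3, 4, 3, 2, 4, 3, 4, 3, 2, 4, 3, 4, 3, 2, 4, 3, 4, 3, 2, 5, 4, 3, 4, 3, 2, 4, 3, 4, 3, 2, 4, 3, 4, 3, 2, 4, 3, 4, 3, 2, 4, 3, 4, 3, 2], [], 17, true⟩) (lall (memL L) [4, 3, 4, 3, 2, 4, 3, 4, 3, 2, 4, 3, 4, 3, 2, 4, 3, 4, 3, 2, 4, 3, 4, 3, 2, 5, 4, 3, 4, 3, 2, 4, 3, 4, 3, 2, 4, 3, 4, 3, 2, 4, 3, 4, 3, 2, 4, 3, 4, 3, 2, 5, 4, 3, 4, 3, 2, 4, 3, 4, 3, 2, 4, 3, 4, 3, 2, 4, 3, 4, 3, 2, 4, 3, 4, 3, 2]) = true := by decide +kernel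

theorem rot5_8 : T.rot 5 [2, 3, 4, 3, 4, 2, 3, 4, 3, 4, 2, 3, 4, 3, 4, 2, 3, 4, 3, 4, 2, 3, 4, 3, 4, 5, 2, 3, 4, 3, 4, 2, 3, 4, 3, 4, 2, 3, 4, 3, 4, 2, 3, 4, 3, 4, 2, 3, 4, 3, 4, 5, 2, 3, 4, 3, 4, 2, 3, 4, 3, 4, 2, 3, 4, 3, 4, 2, 3, 4, 3, 4, 2, 3, 4, 3, 4] (sel (ones 2080) ip5 8) = true := by decide +kernel

theorem rot5_8r : band (Rule.ok (2 * 6) EX RL ⟨5 :: [2, 3, 4, 3, 4, 2, 3, 4, 3, 4, 2, 3, 4, 3, 4, 2, 3, 4, 3, 4, 2, 3, 4, 3, 4, 5, 2, 3, 4, 3, 4, 2, 3, 4, 3, 4, 2, 3, 4, 3, 4, 2, 3, 4, 3, 4, 2, 3, 4, 3, 4, 5, 2, 3, 4, 3, 4, 2, 3, 4, 3, 4, 2, 3, 4, 3, 4, 2, 3, 4, 3, 4, 2, 3, 4, 3, 4], [8], 17, false⟩) (lall (memL L) [2, 3, 4, 3, 4, 2, 3, 4, 3, 4, 2, 3, 4, 3, 4, 2, 3, 4, 3, 4, 2, 3, 4, 3, 4, 5, 2, 3, 4, 3, 4, 2, 3, 4, 3, 4, 2, 3, 4, 3, 4, 2,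 3, 4, 3, 4, 2, 3, 4, 3, 4, 5, 2, 3, 4, 3, 4, 2, 3, 4, 3, 4, 2, 3, 4, 3, 4, 2, 3, 4, 3, 4, 2, 3, 4, 3, 4]) = true := by decide +kernel

theorem cov5 : T.cover 5 [(sel (ones 2080) ip5 1), (sel (ones 2080) ip5 2), (sel (ones 2080) ip5 3), (sel (ones 2080) ip5 4), (sel (ones 2080) ip5 5), (sel (ones 2080) ip5 6), (sel (ones 2080) ip5 7), (sel (ones 2080) ip5 8)] = true := by decide +kernel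

theorem tl5 : T.treeLt 12 5 = true := by decide +kernel

theorem rot6_1 : T.rot 6 [6] (sel (ones 2080) ip6 1) = true := by decide +kernel

theorem rot6_1r : band (Rule.ok (2 * 6) EX RL ⟨6 :: [6], [], 18, false⟩) (lall (memL L) [6]) = true := by decide +kernel

theorem rot6_2 : T.rot 6 [1, 6, 1] (sel (ones 2080) ip6 2) = true := by decide +kernel

theorem rot6_2r : band (Rule.ok (2 * 6) EX RL ⟨6 :: [1, 6, 1], [], 4, true⟩) (lall (memL L) [1, 6, 1]) = true := by decide +kernel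

theorem rot6_3 : T.rot 6 [3, 6, 3] (sel (ones 2080) ip6 3) = true := by decide +kernel

theorem rot6_3r : band (Rule.ok (2 * 6) EX RL ⟨6 :: [3, 6, 3], [], 11, true⟩) (lall (memL L) [3, 6, 3]) = true := by decide +kernel

theorem rot6_4 : T.rot 6 [4, 6, 4] (sel (ones 2080) ip6 4) = true := by decide +kernel

theorem rot6_4r : band (Rule.ok (2 * 6) EX RL ⟨6 :: [4, 6, 4], [], 13, true⟩) (lall (memL L) [4, 6, 4]) = true := by decide +kernel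

theorem rot6_5 : T.rot 6 [5, 6, 5] (sel (ones 2080) ip6 5) = true := by decide +kernel

theorem rot6_5r : band (Rule.ok (2 * 6) EX RL ⟨6 :: [5, 6, 5], [], 14, true⟩) (lall (memL L) [5, 6, 5]) = true := by decide +kernel

theorem rot6_6 : T.rot 6 [2, 6, 2, 6, 2] (sel (ones 2080) ip6 6) = true := by decide +kernel

theorem rot6_6r : band (Rule.ok (2 * 6) EX RL ⟨6 :: [2, 6, 2, 6, 2], [], 8, true⟩) (lall (memL L) [2, 6, 2, 6, 2]) = true := by decide +kernel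

theorem rot6_7 : T.rot 6 [3, 2, 1, 6, 3, 2, 1, 6, 3, 2, 1, 6, 3, 2, 1, 6, 3, 2, 1] (sel (ones 2080) ip6 7) = true := by decide +kernel

theorem rot6_7r : band (Rule.ok (2 * 6) EX RL ⟨6 :: [3, 2, 1, 6, 3, 2, 1, 6, 3, 2, 1, 6, 3, 2, 1, 6, 3, 2, 1], [], 16, true⟩) (lall (memL L) [3, 2, 1, 6, 3, 2, 1, 6, 3, 2, 1, 6, 3, 2, 1, 6, 3, 2, 1]) = true := by decide +kernel

theorem rot6_8 : T.rot 6 [1, 2, 3, 6, 1, 2, 3, 6, 1, 2, 3, 6, 1, 2, 3, 6, 1, 2, 3] (sel (ones 2080) ip6 8) = true := by decide +kernel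

theorem rot6_8r : band (Rule.ok (2 * 6) EX RL ⟨6 :: [1, 2, 3, 6, 1, 2, 3, 6, 1, 2, 3, 6, 1, 2, 3, 6, 1, 2, 3], [10], 16, false⟩) (lall (memL L) [1, 2, 3, 6, 1, 2, 3, 6, 1, 2, 3, 6, 1, 2, 3, 6, 1, 2, 3]) = true := by decide +kernel

theorem cov6 : T.cover 6 [(sel (ones 2080) ip6 1), (sel (ones 2080) ip6 2), (sel (ones 2080) ip6 3), (sel (ones 2080) ip6 4), (sel (ones 2080) ip6 5), (sel (ones 2080) ip6 6), (sel (ones 2080) ip6 7), (sel (ones 2080) ip6 8), 1] = true := by decide +kernel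

theorem tl6 : T.treeLt 12 6 = true := by decide +kernel

end Cfsg.Agent.Spor.G2080
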